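import Groth.Agent.Lib.Helper90.DTen.EvalTenCx
import Groth.Agent.Lib.Helper28.ExactPairingCx

/-!
# The canonical map `K ⊗ Hom•(M, L) ⟶ Hom•(M, K ⊗ L)` is an isomorphism of complexes when `K` is
bounded with finite projective terms (helper90)
-/

set_option autoImplicit false
set_option linter.style.haveILetI false
set_option linter.unusedSectionVars false
universe u
open CategoryTheory CategoryTheory.Limits MonoidalCategory CochainComplex CochainComplex.HomComplex
open scoped TensorProduct

namespace Groth.Agent.Lib.Helper90.DTen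

open Groth.Agent.Lib.Helper26.TensorHomCx Groth.Agent.Lib.Helper28

variable {A : Type u} [CommRing A]

section DualBasis

/-- A finite projective module has a finite dual basis. -/
lemma exists_dualBasis (N : Type*) [AddCommGroup N] [Module A N] [Module.Finite A N]
    [Module.Projective A N] :
    ∃ (k : ℕ) (e : Fin k → N) (φ : Fin k → N →ₗ[A] A), ∀ x, ∑ i, φ i x • e i = x := by
  classical
  obtain ⟨k, f, g, -, -, hfg⟩ := Module.Finite.exists_comp_eq_id_of_projective A N
  refine ⟨k, fun i => f (fun j => if i = j then 1 else 0), fun i => LinearMap.proj i ∘ₗ g,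
    fun x => ?_⟩
  have h1 : f (g x) = x := by
    have := congrArg (fun t => t x) hfg
    simpa using this
  conv_rhs => rw [← h1, LinearMap.pi_apply_eq_sum_univ f (g x)]
  rfl

variable {N W : Type*} [AddCommGroup N] [Module A N] [AddCommGroup W] [Module A W]

lemma sum_tmul_lid_rTensor {k : ℕ} (e : Fin k → N) (φ : Fin k → N →ₗ[A] A)
    (h : ∀ x, ∑ i, φ i x • e i = x) (u : N ⊗[A] W) :
    ∑ i, e i ⊗ₜ[A] (TensorProduct.lid A W ((φ i).rTensor W u)) = u := by
  induction u using TensorProduct.induction_on with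
  | zero => simp
  | tmul x w =>
    simp only [LinearMap.rTensor_tmul, TensorProduct.lid_tmul]
    conv_rhs => rw [← h x, TensorProduct.sum_tmul]
    refine Finset.sum_congr rfl (fun i _ => ?_)
    rw [TensorProduct.tmul_smul, TensorProduct.smul_tmul']
  | add u v hu hv =>
    simp only [map_add, TensorProduct.tmul_add, Finset.sum_add_distrib, hu, hv]

lemma lid_rTensor_lTensor {W' : Type*} [AddCommGroup W'] [Module A W'] (φ : N →ₗ[A] A)
    (f : W →ₗ[A] W') (u : N ⊗[A] W) :
    f (TensorProduct.lid A W (φ.rTensor W u)) =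
      TensorProduct.lid A W' (φ.rTensor W' (f.lTensor N u)) := by
  induction u using TensorProduct.induction_on with
  | zero => simp
  | tmul x w => simp
  | add u v hu hv => simp only [map_add, hu, hv]

end DualBasis

/-- evaluation at `m ∈ M^q`: `Hom^r(M, L) → L^s`. -/
noncomputable def evAt (M L : DRing.Cx A) (r q s : ℤ) (hq : q + r = s) (m : M.X q) :
    (DRing.homCx M L).X r ⟶ L.X s :=
  ModuleCat.ofHom ((evalLin (L := M) (Z := L) r q s hq).flip m)

lemma evAt_apply (M L : DRing.Cx A) (r q s : ℤ) (hq : q + r = s) (m : M.X q)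
    (w : (DRing.homCx M L).X r) :
    (evAt M L r q s hq m).hom w = ((toCochain w).v q s hq).hom m := rfl

lemma ι_evCx_apply (M L : DRing.Cx A) (r q s : ℤ) (hq : r + q = s) (w : (DRing.homCx M L).X r)
    (m : M.X q) :
    (TensCx.ι (DRing.homCx M L) M r q s hq ≫ (evCx M L).f s).hom (w ⊗ₜ[A] m) =
      ((toCochain w).v q s (by omega)).hom m := by
  rw [evCx, ι_uncurryHom_apply]
  rfl

lemma canon_f_apply_v_apply (K L M : DRing.Cx A) (n q n' : ℤ) (hq' : q + n = n')
    (z : (K ⊗ DRing.homCx M L).X n) (m : M.X q) :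
    ((toCochain (((canon K L M).f n).hom z)).v q n' hq').hom m =
      (TensCx.ι (K ⊗ DRing.homCx M L) M n q n' (by omega) ≫
        ((α_ K (DRing.homCx M L) M).hom ≫ K ◁ evCx M L).f n').hom (z ⊗ₜ[A] m) := by
  have h1 : (canon K L M).f n =
      (curry (Cochain.ofHom ((α_ K (DRing.homCx M L) M).hom ≫ K ◁ evCx M L))).v n n (add_zero n) := by
    rw [← ofHom_curryHom, Cochain.ofHom_v]
    rfl
  rw [h1]
  change ((show Cochain M (K ⊗ L) n from
    ((curry (Cochain.ofHom ((α_ K (DRing.homCx M L) M).hom ≫ K ◁ evCx M L))).v n n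
      (add_zero n)).hom z).v q n' hq').hom m = _
  rw [curry_v_apply, curryLin_apply_v_apply _ n n (add_zero n) z q n' hq' n' (by omega) m,
    Cochain.ofHom_v]

lemma ι_ι_canon_aux (K L M : DRing.Cx A) (p r n q n' s : ℤ) (hpr : p + r = n) (hq' : q + n = n')
    (hq : q + r = s) :
    (TensCx.ι K (DRing.homCx M L) p r n hpr ▷ M.X q) ≫
        TensCx.ι (K ⊗ DRing.homCx M L) M n q n' (by omega) ≫
          ((α_ K (DRing.homCx M L) M).hom ≫ K ◁ evCx M L).f n' =
      (α_ (K.X p) ((DRing.homCx M L).X r) (M.X q)).hom ≫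
        (K.X p ◁ (TensCx.ι (DRing.homCx M L) M r q s (by omega) ≫ (evCx M L).f s)) ≫
          TensCx.ι K L p s n' (by omega) := by
  rw [HomologicalComplex.comp_f, ← Category.assoc, ← Category.assoc, ← Category.assoc,
    Category.assoc (TensCx.ι K (DRing.homCx M L) p r n hpr ▷ M.X q),
    TensCx.ι_ι_associator_hom K (DRing.homCx M L) M p r q n s n' hpr (by omega) (by omega) (by omega),
    Category.assoc, Category.assoc, Category.assoc,
    TensCx.isDiag_whiskerLeft K (evCx M L) n' p s (by omega), MonoidalCategory.whiskerLeft_comp,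
    Category.assoc]

lemma ι_canon_evAt (K L M : DRing.Cx A) (p r n q n' s : ℤ) (hpr : p + r = n) (hq' : q + n = n')
    (hq : q + r = s) (m : M.X q) :
    TensCx.ι K (DRing.homCx M L) p r n hpr ≫ (canon K L M).f n ≫ evAt M (K ⊗ L) n q n' hq' m =
      (K.X p ◁ evAt M L r q s hq m) ≫ TensCx.ι K L p s n' (by omega) := by
  apply ModuleCat.MonoidalCategory.tensor_ext
  intro x w
  change (evAt M (K ⊗ L) n q n' hq' m).hom (((canon K L M).f n).hom
    ((TensCx.ι K (DRing.homCx M L) p r n hpr).hom (x ⊗ₜ[A] w))) = _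
  rw [evAt_apply, canon_f_apply_v_apply]
  change ((TensCx.ι K (DRing.homCx M L) p r n hpr ▷ M.X q) ≫
        TensCx.ι (K ⊗ DRing.homCx M L) M n q n' (by omega) ≫
          ((α_ K (DRing.homCx M L) M).hom ≫ K ◁ evCx M L).f n').hom ((x ⊗ₜ[A] w) ⊗ₜ[A] m) = _
  rw [ι_ι_canon_aux K L M p r n q n' s hpr hq' hq]
  change (TensCx.ι K L p s n' (by omega)).hom (x ⊗ₜ[A]
    (TensCx.ι (DRing.homCx M L) M r q s (by omega) ≫ (evCx M L).f s).hom (w ⊗ₜ[A] m)) = _
  rw [ι_evCx_apply]
  rfl

lemma canon_evAt_proj (K L M : DRing.Cx A) (p r n q n' s : ℤ) (hpr : p + r = n) (hq' : q + n = n')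
    (hq : q + r = s) (m : M.X q) :
    (canon K L M).f n ≫ evAt M (K ⊗ L) n q n' hq' m ≫ TensCx.proj K L p s n' (by omega) =
      TensCx.proj K (DRing.homCx M L) p r n hpr ≫ (K.X p ◁ evAt M L r q s hq m) := by
  apply TensCx.hom_ext
  intro p' r' hpr'
  have h := ι_canon_evAt K L M p' r' n q n' (q + r') hpr' hq' rfl m
  rw [← Category.assoc, ← Category.assoc, Category.assoc (TensCx.ι _ _ _ _ _ _), h]
  by_cases hp : p' = p
  · subst hp
    obtain rfl : r' = r := by omega
    obtain rfl : s = q + r' := by omega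
    rw [Category.assoc, TensCx.ι_proj_self, Category.comp_id, ← Category.assoc, TensCx.ι_proj_self,
      Category.id_comp]
  · rw [Category.assoc, TensCx.ι_proj_ne K L p' (q + r') p s n' (by omega) (by omega) hp, comp_zero,
      ← Category.assoc, TensCx.ι_proj_ne K (DRing.homCx M L) p' r' p r n hpr' hpr hp, zero_comp]

lemma canon_evAt_proj_apply (K L M : DRing.Cx A) (p r n q n' s : ℤ) (hpr : p + r = n)
    (hq' : q + n = n') (hq : q + r = s) (m : M.X q) (z : (K ⊗ DRing.homCx M L).X n) :
    (TensCx.proj K L p s n' (by omega)).hom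
        (((toCochain (((canon K L M).f n).hom z)).v q n' hq').hom m) =
      ((evAt M L r q s hq m).hom.lTensor (K.X p))
        ((TensCx.proj K (DRing.homCx M L) p r n hpr).hom z) := by
  have h := congrArg (fun t => t.hom z) (canon_evAt_proj K L M p r n q n' s hpr hq' hq m)
  exact h

theorem injective_canon_f (K L M : DRing.Cx A)
    (hfp : ∀ p, Module.Finite A (K.X p) ∧ Module.Projective A (K.X p)) (n : ℤ) :
    Function.Injective ((canon K L M).f n).hom := by
  rw [injective_iff_map_eq_zero]
  intro z hz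
  apply TensCx.eq_zero_of_proj_eq_zero
  intro p
  obtain ⟨_, _⟩ := hfp p
  obtain ⟨k, e, φ, hφ⟩ := exists_dualBasis (A := A) (K.X p)
  have hu := sum_tmul_lid_rTensor (W := (DRing.homCx M L).X (n - p)) e φ hφ
    ((TensCx.proj K (DRing.homCx M L) p (n - p) n (by omega)).hom z)
  refine hu.symm.trans (Finset.sum_eq_zero (fun i _ => ?_))
  have hw : TensorProduct.lid A ((DRing.homCx M L).X (n - p)) ((φ i).rTensor _
      ((TensCx.proj K (DRing.homCx M L) p (n - p) n (by omega)).hom z)) = 0 := by
    refine Cochain.ext _ _ (fun q s hq => ?_)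
    apply ModuleCat.hom_ext
    apply LinearMap.ext
    intro m
    have h1 := lid_rTensor_lTensor (φ i) (evAt M L (n - p) q s hq m).hom
      ((TensCx.proj K (DRing.homCx M L) p (n - p) n (by omega)).hom z)
    rw [← canon_evAt_proj_apply K L M p (n - p) n q (q + n) s (by omega) rfl hq m z, hz] at h1
    rw [evAt_apply] at h1
    refine h1.trans ?_
    have e0 : (toCochain (0 : (DRing.homCx M (K ⊗ L)).X n)).v q (q + n) rfl = 0 :=
      Cochain.zero_v _ _ _
    have e1 : (toCochain (0 : (DRing.homCx M L).X (n - p))).v q s hq = 0 :=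
      Cochain.zero_v _ _ _
    rw [e0]
    refine Eq.trans ?_ (congrArg (fun t => t.hom m) e1).symm
    simp
  rw [hw, TensorProduct.tmul_zero]

theorem surjective_canon_f (K L M : DRing.Cx A) (a b : ℤ)
    (hK : ∀ p, p < a ∨ b < p → IsZero (K.X p))
    (hfp : ∀ p, Module.Finite A (K.X p) ∧ Module.Projective A (K.X p)) (n : ℤ) :
    Function.Surjective ((canon K L M).f n).hom := by
  classical
  intro c
  choose k e φ hφ using fun p => (by
    haveI := (hfp p).1
    haveI := (hfp p).2
    exact exists_dualBasis (A := A) (K.X p))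
  let w : ∀ (p : ℤ) (i : Fin (k p)), Cochain M L (n - p) := fun p i =>
    Cochain.mk (fun q s hq => ModuleCat.ofHom
      ((TensorProduct.lid A (L.X s)).toLinearMap ∘ₗ (φ p i).rTensor (L.X s) ∘ₗ
        (TensCx.proj K L p s (q + n) (by omega)).hom ∘ₗ ((toCochain c).v q (q + n) rfl).hom))
  let z : (K ⊗ DRing.homCx M L).X n := ∑ p ∈ Finset.Icc a b, ∑ i,
    (TensCx.ι K (DRing.homCx M L) p (n - p) n (by omega)).hom
      (e p i ⊗ₜ[A] (show (DRing.homCx M L).X (n - p) from w p i))
  refine ⟨z, ?_⟩
  refine Cochain.ext _ _ (fun q n' hq' => ?_)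
  subst hq'
  apply ModuleCat.hom_ext
  apply LinearMap.ext
  intro m
  rw [← sub_eq_zero]
  apply TensCx.eq_zero_of_proj_eq_zero
  intro p'
  rw [map_sub, sub_eq_zero]
  have h1 := canon_evAt_proj_apply K L M p' (n - p') n q (q + n) (q + n - p') (by omega) rfl
    (by omega) m z
  refine h1.trans ?_
  have h2 := sum_tmul_lid_rTensor (W := L.X (q + n - p')) (e p') (φ p') (hφ p')
    ((TensCx.proj K L p' (q + n - p') (q + n) (by omega)).hom
      (((toCochain c).v q (q + n) rfl).hom m))
  refine Eq.trans ?_ h2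
  by_cases hp' : p' ∈ Finset.Icc a b
  · have hz : (TensCx.proj K (DRing.homCx M L) p' (n - p') n (by omega)).hom z =
        ∑ i, e p' i ⊗ₜ[A] (show (DRing.homCx M L).X (n - p') from w p' i) := by
      dsimp only [z]
      rw [map_sum, Finset.sum_eq_single p']
      · rw [map_sum]
        refine Finset.sum_congr rfl (fun i _ => ?_)
        change (TensCx.ι K (DRing.homCx M L) p' (n - p') n (by omega) ≫
          TensCx.proj K (DRing.homCx M L) p' (n - p') n (by omega)).hom _ = _
        rw [TensCx.ι_proj_self]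
        rfl
      · intro p _ hne
        rw [map_sum]
        refine Finset.sum_eq_zero (fun i _ => ?_)
        change (TensCx.ι K (DRing.homCx M L) p (n - p) n (by omega) ≫
          TensCx.proj K (DRing.homCx M L) p' (n - p') n (by omega)).hom _ = _
        rw [TensCx.ι_proj_ne K (DRing.homCx M L) p (n - p) p' (n - p') n (by omega) (by omega) hne]
        rfl
      · intro h
        exact absurd hp' h
    rw [hz, map_sum]
    refine Finset.sum_congr rfl (fun i _ => ?_)
    rw [LinearMap.lTensor_tmul, evAt_apply]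
    rfl
  · have hsub : Subsingleton (K.X p') := by
      apply ModuleCat.subsingleton_of_isZero
      apply hK
      rw [Finset.mem_Icc] at hp'
      omega
    have h3 := sum_tmul_lid_rTensor (W := L.X (q + n - p')) (e p') (φ p') (hφ p')
      (((evAt M L (n - p') q (q + n - p') (by omega) m).hom.lTensor (K.X p'))
        ((TensCx.proj K (DRing.homCx M L) p' (n - p') n (by omega)).hom z))
    refine h3.symm.trans ?_
    refine Finset.sum_congr rfl (fun i _ => ?_)
    rw [Subsingleton.elim (e p' i) 0, TensorProduct.zero_tmul, TensorProduct.zero_tmul]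

end Groth.Agent.Lib.Helper90.DTen
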