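import Groth.Agent.Lib.Helper90.DTen.EvalTenNat
import Groth.Agent.Lib.Helper90.DTen.CanonIso

/-!
# `K ⊗^L RHom(M, L) ⟶ RHom(M, K ⊗^L L)` is an isomorphism for `K` perfect (helper90)
-/

set_option autoImplicit false
set_option linter.style.haveILetI false
set_option linter.unusedSectionVars false
universe u
open CategoryTheory CategoryTheory.Limits MonoidalCategory Opposite
attribute [local instance] HasDerivedCategory.standard

namespace Groth.Agent.Lib.Helper90.DTen

open _root_.DTen Groth.Agent.Lib.Helper26.TensorHomCx Groth.Agent.Lib.Helper26.KProjQ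
  Groth.Agent.Lib.Helper26.DTenKProj

variable {A : Type u} [CommRing A]

/-- The canonical map of complexes is an isomorphism when `K` is bounded with finite projective
terms. -/
theorem isIso_canon (K L M : DRing.Cx A) (a b : ℤ) (hK : DRing.VanishesOutside K a b)
    (hfp : DRing.TermwiseFiniteProjective K) : IsIso (canon K L M) := by
  haveI : ∀ n, IsIso ((canon K L M).f n) := fun n => by
    rw [ConcreteCategory.isIso_iff_bijective]
    exact ⟨injective_canon_f K L M hfp n, surjective_canon_f K L M a b hK hfp n⟩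
  exact HomologicalComplex.Hom.isIso_of_components _

variable [HasLTen A] [HasLTen₃ A] [IsSymMonoidal A] [HasRHom A]

/-- `IsIso (evalTen K L M)` is invariant under isomorphisms in the three variables. -/
lemma isIso_evalTen_of_isos {K K' L L' M M' : Dual.D A} (k : K ≅ K') (l : L ≅ L') (m : M' ≅ M)
    (h : IsIso (evalTen K L M)) : IsIso (evalTen K' L' M') := by
  -- first variable
  have h1 : IsIso (evalTen K' L M) := by
    haveI := isIso_tmap k.hom (𝟙 ((RHomR A M).obj L))
    have e := evalTen_naturality_left k.hom L M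
    have e' : evalTen K' L M = inv (tmap k.hom (𝟙 ((RHomR A M).obj L))) ≫
        evalTen K L M ≫ (RHomR A M).map (tmap k.hom (𝟙 L)) := by
      rw [← e, IsIso.inv_hom_id_assoc]
    haveI := isIso_tmap k.hom (𝟙 L)
    rw [e']
    infer_instance
  -- second variable
  have h2 : IsIso (evalTen K' L' M) := by
    haveI := isIso_tmap (𝟙 K') ((RHomR A M).map l.hom)
    have e := evalTen_naturality_middle K' l.hom M
    have e' : evalTen K' L' M = inv (tmap (𝟙 K') ((RHomR A M).map l.hom)) ≫
        evalTen K' L M ≫ (RHomR A M).map (tmap (𝟙 K') l.hom) := by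
      rw [← e, IsIso.inv_hom_id_assoc]
    haveI := isIso_tmap (𝟙 K') l.hom
    rw [e']
    infer_instance
  -- third variable
  have e := evalTen_naturality_right K' L' m.hom
  haveI h3 : IsIso ((RHom A).map m.hom.op) := Functor.map_isIso _ _
  haveI : IsIso (RHomMap m.hom L') := by
    dsimp only [RHomMap]
    exact NatIso.isIso_app_of_isIso _ _
  haveI : IsIso (RHomMap m.hom ((LTen₂ A).obj (K', L'))) := by
    dsimp only [RHomMap]
    exact NatIso.isIso_app_of_isIso _ _
  haveI := isIso_tmap (𝟙 K') (RHomMap m.hom L')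
  have e' : evalTen K' L' M' = inv (tmap (𝟙 K') (RHomMap m.hom L')) ≫
      evalTen K' L' M ≫ RHomMap m.hom ((LTen₂ A).obj (K', L')) := by
    rw [e, IsIso.inv_hom_id_assoc]
  rw [e']
  infer_instance

/-- `evalTen` on images of complexes, with `K` bounded finite projective and `M` K-projective. -/
lemma isIso_evalTen_cx (E L₀ M₀ : DRing.Cx A) (a b : ℤ) (hE : DRing.VanishesOutside E a b)
    (hfp : DRing.TermwiseFiniteProjective E) [M₀.IsKProjective] :
    IsIso (evalTen (DerivedCategory.Q.obj E) (DerivedCategory.Q.obj L₀) (DerivedCategory.Q.obj M₀)) := by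
  haveI : E.IsKProjective := Groth.Agent.Lib.Helper32.LBC.isKProjective_of_vanishesAbove E b
    (fun i hi => hE i (Or.inr hi)) (fun i => (hfp i).2)
  have h := evalTen_cx E L₀ M₀
  haveI := isIso_rho M₀ L₀
  haveI := isIso_rho M₀ (E ⊗ L₀)
  haveI := isIso_eps_left E L₀
  haveI := isIso_eps_left E (DRing.homCx M₀ L₀)
  haveI := isIso_canon E L₀ M₀ a b hE hfp
  haveI := isIso_tmap (𝟙 (DerivedCategory.Q.obj E)) (rho M₀ L₀)
  have e' : evalTen (DerivedCategory.Q.obj E) (DerivedCategory.Q.obj L₀) (DerivedCategory.Q.obj M₀) =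
      inv (tmap (𝟙 (DerivedCategory.Q.obj E)) (rho M₀ L₀)) ≫
        (eps E (DRing.homCx M₀ L₀) ≫ DerivedCategory.Q.map (canon E L₀ M₀) ≫ rho M₀ (E ⊗ L₀)) ≫
          inv ((RHomR A (DerivedCategory.Q.obj M₀)).map (eps E L₀)) := by
    rw [← h]
    simp
  rw [e']
  infer_instance

/-- `K ⊗^L RHom(M, L) ⟶ RHom(M, K ⊗^L L)` is an isomorphism for `K` perfect. -/
theorem isIso_evalTen_of_isPerfect_left (K L M : Dual.D A) (hK : DRing.IsPerfect A K) :
    IsIso (evalTen K L M) := by
  obtain ⟨E, a, b, hE, hfp, ⟨eK⟩⟩ := hK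
  obtain ⟨L₀, _, ⟨eL⟩⟩ := Groth.Agent.Lib.Helper32.LBC.exists_kproj_iso L
  obtain ⟨M₀, hM₀, ⟨eM⟩⟩ := Groth.Agent.Lib.Helper32.LBC.exists_kproj_iso M
  exact isIso_evalTen_of_isos eK eL eM.symm (isIso_evalTen_cx E L₀ M₀ a b hE hfp)

end Groth.Agent.Lib.Helper90.DTen
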