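import Groth.Agent.Lib.Helper26.TensorHomCx
import Groth.Agent.Lib.Helper26.DTenKProj
import Groth.Agent.Lib.Helper28.TensCx3

/-!
# The tensor–Hom adjunction for cochain complexes of modules, at the level of chain maps (helper90)

Complements `Helper26.TensorHomCx`: `uncurryHom`, the evaluation `evCx`, naturality and
compatibility with homotopies.
-/

set_option autoImplicit false

universe u

open CategoryTheory CategoryTheory.Limits MonoidalCategory CochainComplex CochainComplex.HomComplex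
open scoped TensorProduct

namespace Groth.Agent.Lib.Helper90.DTen

open Groth.Agent.Lib.Helper26.TensorHomCx Groth.Agent.Lib.Helper28

variable {A : Type u} [CommRing A] {K K' L Z Z' : DRing.Cx A}

lemma curry_add {d : ℤ} (z z' : Cochain (K ⊗ L) Z d) : curry (z + z') = curry z + curry z' :=
  (uncurryLinearEquiv K L Z d).symm.map_add z z'

/-- The chain map `K ⊗ L ⟶ Z` attached to a chain map `K ⟶ Hom•(L, Z)`. -/
noncomputable def uncurryHom (g : K ⟶ DRing.homCx L Z) : K ⊗ L ⟶ Z :=
  Cocycle.homOf (Cocycle.mk (uncurry (Cochain.ofHom g)) 1 (zero_add 1) (by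
    rw [δ_uncurry, δ_ofHom, uncurry_zero]))

lemma ofHom_uncurryHom (g : K ⟶ DRing.homCx L Z) :
    Cochain.ofHom (uncurryHom g) = uncurry (Cochain.ofHom g) :=
  Cocycle.cochain_ofHom_homOf_eq_coe _

lemma ofHom_injective {X Y : DRing.Cx A} {f g : X ⟶ Y} (h : Cochain.ofHom f = Cochain.ofHom g) :
    f = g := by
  ext n : 1
  have := congrArg (fun z => z.v n n (add_zero n)) h
  simpa using this

@[simp] lemma uncurryHom_curryHom (f : K ⊗ L ⟶ Z) : uncurryHom (curryHom f) = f := by
  apply ofHom_injective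
  rw [ofHom_uncurryHom, ofHom_curryHom, uncurry_curry]

@[simp] lemma curryHom_uncurryHom (g : K ⟶ DRing.homCx L Z) : curryHom (uncurryHom g) = g := by
  apply ofHom_injective
  rw [ofHom_curryHom, ofHom_uncurryHom, curry_uncurry]

/-- An element of a term of `Hom•(L, Z)`, seen as a cochain. -/
abbrev toCochain {p : ℤ} (w : (DRing.homCx L Z).X p) : Cochain L Z p := w

lemma ι_uncurryHom_apply (g : K ⟶ DRing.homCx L Z) (p q n : ℤ) (hpq : p + q = n)
    (x : K.X p) (y : L.X q) :
    (TensCx.ι K L p q n hpq ≫ (uncurryHom g).f n).hom (x ⊗ₜ[A] y) =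
      ((toCochain ((g.f p).hom x)).v q n (by omega)).hom y := by
  have h1 : (uncurryHom g).f n = (uncurry (Cochain.ofHom g)).v n n (add_zero n) := by
    rw [← ofHom_uncurryHom, Cochain.ofHom_v]
  rw [h1, ι_uncurry_v_apply (Cochain.ofHom g) p q n n hpq (add_zero n) p (add_zero p), bil_apply,
    Cochain.ofHom_v]

lemma uncurryHom_comp_left (a : K' ⟶ K) (g : K ⟶ DRing.homCx L Z) :
    uncurryHom (a ≫ g) = (a ▷ L) ≫ uncurryHom g := by
  ext n : 1
  apply TensCx.hom_ext
  intro p q hpq
  apply ModuleCat.MonoidalCategory.tensor_ext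
  intro x y
  have h2 : TensCx.ι K' L p q n hpq ≫ (a ▷ L ≫ uncurryHom g).f n =
      (a.f p ▷ L.X q) ≫ TensCx.ι K L p q n hpq ≫ (uncurryHom g).f n := by
    rw [HomologicalComplex.comp_f, ← Category.assoc, TensCx.isDiag_whiskerRight a L n p q hpq,
      Category.assoc]
  rw [h2, ι_uncurryHom_apply]
  change _ = (TensCx.ι K L p q n hpq ≫ (uncurryHom g).f n).hom ((a.f p).hom x ⊗ₜ[A] y)
  rw [ι_uncurryHom_apply]
  rfl

/-- The evaluation `Hom•(L, Z) ⊗ L ⟶ Z`. -/
noncomputable def evCx (L Z : DRing.Cx A) : DRing.homCx L Z ⊗ L ⟶ Z := uncurryHom (𝟙 _)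

lemma uncurryHom_eq (g : K ⟶ DRing.homCx L Z) : uncurryHom g = (g ▷ L) ≫ evCx L Z := by
  rw [evCx, ← uncurryHom_comp_left, Category.comp_id]

lemma curryHom_comp_left (a : K' ⟶ K) (f : K ⊗ L ⟶ Z) :
    curryHom ((a ▷ L) ≫ f) = a ≫ curryHom f := by
  rw [← curryHom_uncurryHom (a ≫ curryHom f), uncurryHom_comp_left, uncurryHom_curryHom]

lemma curryHom_evCx (L Z : DRing.Cx A) : curryHom (evCx L Z) = 𝟙 _ := curryHom_uncurryHom _

/-- `uncurryHom` preserves homotopies. -/
noncomputable def uncurryHomHomotopy {g g' : K ⟶ DRing.homCx L Z} (h : Homotopy g g') :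
    Homotopy (uncurryHom g) (uncurryHom g') :=
  (Homotopy.ofEq (uncurryHom_eq g)).trans (((TensCx.whiskerRightHomotopy h L).compRight
    (evCx L Z)).trans (Homotopy.ofEq (uncurryHom_eq g').symm))

/-- `curryHom` preserves homotopies. -/
noncomputable def curryHomHomotopy {f f' : K ⊗ L ⟶ Z} (h : Homotopy f f') :
    Homotopy (curryHom f) (curryHom f') :=
  (Cochain.equivHomotopy _ _).symm ⟨curry (Cochain.equivHomotopy _ _ h).1, by
    obtain ⟨β, h2⟩ := Cochain.equivHomotopy _ _ h
    rw [ofHom_curryHom, ofHom_curryHom]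
    dsimp only
    rw [δ_curry, ← curry_add, ← h2]⟩

end Groth.Agent.Lib.Helper90.DTen
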