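import Groth.Agent.Lib.Helper90.DTen.DLevel

/-!
# `RHom(QP, QL) ≅ Q(Hom•(P, L))` for `P` K-projective (helper90)
-/

set_option autoImplicit false
set_option linter.style.haveILetI false
set_option linter.unusedSectionVars false
universe u
open CategoryTheory CategoryTheory.Limits MonoidalCategory Opposite
attribute [local instance] HasDerivedCategory.standard

namespace Groth.Agent.Lib.Helper90.DTen

open _root_.DTen Groth.Agent.Lib.Helper26.TensorHomCx Groth.Agent.Lib.Helper26.KProjQ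
  Groth.Agent.Lib.Helper26.DTenKProj

variable {A : Type u} [CommRing A]

/-- A morphism of `D(A)` is an isomorphism as soon as it induces bijections on maps from images of
K-projective complexes. -/
lemma isIso_of_bijective_comp {Y Y' : Dual.D A} (φ : Y ⟶ Y')
    (h : ∀ (P : DRing.Cx A) [P.IsKProjective],
      Function.Bijective (fun g : DerivedCategory.Q.obj P ⟶ Y => g ≫ φ)) : IsIso φ := by
  obtain ⟨P₁, hP₁, ⟨e₁⟩⟩ := Groth.Agent.Lib.Helper32.LBC.exists_kproj_iso Y'
  obtain ⟨P₂, hP₂, ⟨e₂⟩⟩ := Groth.Agent.Lib.Helper32.LBC.exists_kproj_iso Y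
  obtain ⟨s', hs'⟩ := (h P₁).2 e₁.hom
  have hs'' : s' ≫ φ = e₁.hom := hs'
  have hs : (e₁.inv ≫ s') ≫ φ = 𝟙 Y' := by
    rw [Category.assoc, hs'', Iso.inv_hom_id]
  refine ⟨e₁.inv ≫ s', ?_, hs⟩
  have h2 : (e₂.hom ≫ φ ≫ e₁.inv ≫ s') ≫ φ = e₂.hom ≫ φ := by
    rw [Category.assoc, Category.assoc, hs, Category.comp_id]
  have h3 := (h P₂).1 h2
  exact (cancel_epi e₂.hom).1 (h3.trans (Category.comp_id _).symm)

variable [HasLTen A] [HasLTen₃ A] [IsSymMonoidal A] [HasRHom A]

/-- The comparison map `Q(Hom•(P, L)) ⟶ RHom(QP, QL)`: the adjunct of the counit followed by the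
evaluation of complexes. -/
noncomputable def rho (P L : DRing.Cx A) :
    DerivedCategory.Q.obj (DRing.homCx P L) ⟶
      (RHomR A (DerivedCategory.Q.obj P)).obj (DerivedCategory.Q.obj L) :=
  rhomHomEquiv _ _ _ (eps (DRing.homCx P L) P ≫ DerivedCategory.Q.map (evCx P L))

lemma rho_fac (P L : DRing.Cx A) :
    tmap (rho P L) (𝟙 (DerivedCategory.Q.obj P)) ≫ ev (DerivedCategory.Q.obj P) (DerivedCategory.Q.obj L) =
      eps (DRing.homCx P L) P ≫ DerivedCategory.Q.map (evCx P L) :=
  ((rhomAdj A (DerivedCategory.Q.obj P)).homEquiv _ _).left_inv _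

lemma comp_rho {P' : DRing.Cx A} (P L : DRing.Cx A) (g : P' ⟶ DRing.homCx P L) :
    DerivedCategory.Q.map g ≫ rho P L =
      rhomHomEquiv _ _ _ (eps P' P ≫ DerivedCategory.Q.map (uncurryHom g)) := by
  have h1 : DerivedCategory.Q.map g ≫ rho P L = rhomHomEquiv _ _ _
      ((tensorRightD A (DerivedCategory.Q.obj P)).map (DerivedCategory.Q.map g) ≫
        (eps (DRing.homCx P L) P ≫ DerivedCategory.Q.map (evCx P L))) :=
    ((rhomAdj A (DerivedCategory.Q.obj P)).homEquiv_naturality_left _ _).symm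
  rw [h1]
  congr 1
  have h2 := eps_naturality g (𝟙 P)
  have e1 : (tensorRightD A (DerivedCategory.Q.obj P)).map (DerivedCategory.Q.map g) =
      tmap (DerivedCategory.Q.map g) (DerivedCategory.Q.map (𝟙 P)) := by
    rw [CategoryTheory.Functor.map_id]
    rfl
  rw [e1, ← Category.assoc, h2, Category.assoc, ← Functor.map_comp, MonoidalCategory.tensorHom_id,
    ← uncurryHom_eq]

lemma bijective_comp_rho (P L : DRing.Cx A) [P.IsKProjective] (P' : DRing.Cx A) [P'.IsKProjective] :
    Function.Bijective (fun g : DerivedCategory.Q.obj P' ⟶ DerivedCategory.Q.obj (DRing.homCx P L) =>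
      g ≫ rho P L) := by
  haveI : (P' ⊗ P).IsKProjective := isKProjective_tensor P' P
  haveI : IsIso (eps P' P) := isIso_ε A P' P
  constructor
  · intro g g' hgg'
    obtain ⟨g₀, rfl⟩ := Q_map_surjective _ _ g
    obtain ⟨g₀', rfl⟩ := Q_map_surjective _ _ g'
    dsimp only at hgg'
    rw [comp_rho, comp_rho] at hgg'
    have h1 := (rhomHomEquiv _ _ _).injective hgg'
    have h2 := (cancel_epi _).1 h1
    obtain ⟨H⟩ := nonempty_homotopy_of_Q_map_eq _ _ h2
    have H' := curryHomHomotopy H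
    rw [curryHom_uncurryHom, curryHom_uncurryHom] at H'
    exact Q_map_eq_of_homotopy _ _ H'
  · intro k
    obtain ⟨f, hf⟩ := Q_map_surjective (P' ⊗ P) L (inv (eps P' P) ≫ (rhomHomEquiv _ _ _).symm k)
    refine ⟨DerivedCategory.Q.map (curryHom f), ?_⟩
    dsimp only
    rw [comp_rho, uncurryHom_curryHom, hf, IsIso.hom_inv_id_assoc, Equiv.apply_symm_apply]

/-- `Q(Hom•(P, L)) ⟶ RHom(QP, QL)` is an isomorphism for `P` K-projective. -/
lemma isIso_rho (P L : DRing.Cx A) [P.IsKProjective] : IsIso (rho P L) :=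
  isIso_of_bijective_comp _ (fun P' _ => bijective_comp_rho P L P')

end Groth.Agent.Lib.Helper90.DTen
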