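import Groth.Agent.Lib.Helper90.DTen.CanonHIso

/-!
# Surjectivity of the canonical map `Hom•(L, M) ⊗ E ⟶ Hom•(Hom•(E, L), M)` under general finiteness
hypotheses (helper90)
-/

set_option autoImplicit false
set_option linter.style.haveILetI false
set_option linter.unusedSectionVars false
universe u
open CategoryTheory CategoryTheory.Limits MonoidalCategory CochainComplex CochainComplex.HomComplex
open scoped TensorProduct

namespace Groth.Agent.Lib.Helper90.DTen

open Groth.Agent.Lib.Helper26.TensorHomCx Groth.Agent.Lib.Helper28 _root_.DTen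

variable {A : Type u} [CommRing A]

section Recon

variable (E L : DRing.Cx A)
  (k : ℤ → ℕ) (e : ∀ q, Fin (k q) → E.X q) (φ : ∀ q, Fin (k q) → E.X q →ₗ[A] A)
  (hφ : ∀ q x, ∑ i, φ q i x • e q i = x)

include hφ in
/-- Reconstruction of a cochain `E → L` of degree `r` from its values on a dual basis, when only
finitely many degrees contribute. -/
lemma sum_singleHom_evAt' (r : ℤ) (S : Finset ℤ)
    (hS : ∀ q, q ∉ S → Subsingleton (E.X q) ∨ Subsingleton (L.X (q + r)))
    (w : (DRing.homCx E L).X r) :
    ∑ q ∈ S, ∑ j, (singleHom E L r q (q + r) rfl (φ q j)).hom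
      ((evAt E L r q (q + r) rfl (e q j)).hom w) = w := by
  classical
  refine Cochain.ext _ _ (fun q' s' hq' => ?_)
  apply ModuleCat.hom_ext
  apply LinearMap.ext
  intro m
  subst hq'
  change (evAt E L r q' (q' + r) rfl m).hom
    (∑ q ∈ S, ∑ j, (singleHom E L r q (q + r) rfl (φ q j)).hom
      ((evAt E L r q (q + r) rfl (e q j)).hom w)) = (evAt E L r q' (q' + r) rfl m).hom w
  rw [map_sum]
  by_cases hq' : q' ∈ S
  · rw [Finset.sum_eq_single q']
    · rw [map_sum]
      have h1 : ∀ j, (evAt E L r q' (q' + r) rfl m).hom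
          ((singleHom E L r q' (q' + r) rfl (φ q' j)).hom
            ((evAt E L r q' (q' + r) rfl (e q' j)).hom w)) =
          φ q' j m • ((toCochain w).v q' (q' + r) rfl).hom (e q' j) := fun j => by
        rw [evAt_singleHom_self]
        rfl
      rw [Finset.sum_congr rfl (fun j _ => h1 j),
        dualBasis_apply E k e φ hφ q' ((toCochain w).v q' (q' + r) rfl).hom m]
      rfl
    · intro q _ hne
      rw [map_sum]
      refine Finset.sum_eq_zero (fun j _ => ?_)
      exact evAt_singleHom_ne E L r q (q + r) rfl (φ q j) _ q' (q' + r) rfl (Ne.symm hne) m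
    · intro h
      exact absurd hq' h
  · rcases hS q' hq' with hsub | hsub
    · have hm : m = 0 := Subsingleton.elim _ _
      subst hm
      rw [evAt_apply, map_zero]
      refine Finset.sum_eq_zero (fun q _ => ?_)
      rw [evAt_apply, map_zero]
    · exact Subsingleton.elim _ _

end Recon

theorem surjective_canonH_f' (E L M : DRing.Cx A)
    (hfp : ∀ q, Module.Finite A (E.X q) ∧ Module.Projective A (E.X q)) (n : ℤ) (S : Finset ℤ)
    (hS : ∀ t : ℤ, Subsingleton (M.X (t + n)) ∨
      ∀ p, p ∉ S → Subsingleton (E.X p) ∨ Subsingleton (L.X (p + t))) :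
    Function.Surjective ((canonH E L M).f n).hom := by
  classical
  intro c
  choose k e φ hφ using fun q => (by
    haveI := (hfp q).1
    haveI := (hfp q).2
    exact exists_dualBasis (A := A) (E.X q))
  let y : (DRing.homCx L M ⊗ E).X n := ∑ p ∈ S, ∑ i,
    (TensCx.ι (DRing.homCx L M) E (n - p) p n (by omega)).hom
      ((show (DRing.homCx L M).X (n - p) from surjCochain E L M n p c (φ p i)) ⊗ₜ[A] e p i)
  refine ⟨y, ?_⟩
  refine Cochain.ext _ _ (fun t n' ht => ?_)
  apply ModuleCat.hom_ext
  apply LinearMap.ext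
  intro g
  subst ht
  rcases hS t with hsub | hS'
  · exact Subsingleton.elim _ _
  change (evAt (DRing.homCx E L) M n t (t + n) rfl g).hom (((canonH E L M).f n).hom y) =
    ((toCochain c).v t (t + n) rfl).hom g
  have hg := sum_singleHom_evAt' E L k e φ hφ t S hS' g
  dsimp only [y]
  rw [map_sum, map_sum]
  conv_rhs => rw [← hg, map_sum]
  refine Finset.sum_congr rfl (fun p _ => ?_)
  rw [map_sum, map_sum, map_sum]
  refine Finset.sum_congr rfl (fun i _ => ?_)
  rw [evAt_apply, canonH_ι_apply E L M (n - p) p n t (t + n) (p + t) (by omega) rfl rfl]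
  have h1 := surjCochain_v_apply E L M n p c (φ p i) t (p + t) (t + n) rfl rfl
    (((toCochain g).v p (p + t) rfl).hom (e p i))
  refine (congrArg (fun T => (p * t).negOnePow • T) h1).trans ?_
  rw [smul_smul, Int.units_mul_self, one_smul]
  rfl

end Groth.Agent.Lib.Helper90.DTen
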