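import Groth.Agent.Lib.Helper90.DTen.Main2

/-!
# Contravariant functoriality of `Hom•(-, K)`, homotopy invariance, and K-flatness of `Hom•(P, K)`
for `P` perfect (helper90)
-/

set_option autoImplicit false
set_option linter.style.haveILetI false
set_option linter.unusedSectionVars false
universe u
open CategoryTheory CategoryTheory.Limits MonoidalCategory
attribute [local instance] HasDerivedCategory.standard

namespace Groth.Agent.Lib.Helper90.DTen

open Groth.Agent.Lib.Helper26.TensorHomCx Groth.Agent.Lib.Helper26.KProjQ Groth.Agent.Lib.Helper28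

variable {A : Type u} [CommRing A]

/-- Precomposition `Hom•(P, K) ⟶ Hom•(E, K)` with `f : E ⟶ P`. -/
noncomputable def precomp {E P : DRing.Cx A} (f : E ⟶ P) (K : DRing.Cx A) :
    DRing.homCx P K ⟶ DRing.homCx E K :=
  curryHom ((DRing.homCx P K ◁ f) ≫ evCx P K)

lemma precomp_id (P K : DRing.Cx A) : precomp (𝟙 P) K = 𝟙 _ := by
  rw [precomp, MonoidalCategory.whiskerLeft_id, Category.id_comp, curryHom_evCx]

lemma precomp_comp {E P P' : DRing.Cx A} (f : E ⟶ P) (g : P ⟶ P') (K : DRing.Cx A) :
    precomp (f ≫ g) K = precomp g K ≫ precomp f K := by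
  change curryHom _ = precomp g K ≫ curryHom ((DRing.homCx P K ◁ f) ≫ evCx P K)
  rw [← curryHom_comp_left]
  congr 1
  rw [← MonoidalCategory.whisker_exchange_assoc, ← uncurryHom_eq, precomp, uncurryHom_curryHom,
    MonoidalCategory.whiskerLeft_comp, Category.assoc]

/-- Precomposition preserves homotopies. -/
noncomputable def precompHomotopy {E P : DRing.Cx A} {f f' : E ⟶ P} (h : Homotopy f f')
    (K : DRing.Cx A) : Homotopy (precomp f K) (precomp f' K) :=
  curryHomHomotopy ((TensCx.whiskerLeftHomotopy (DRing.homCx P K) h).compRight (evCx P K))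

/-- `Hom•(-, K)` sends homotopy equivalences to homotopy equivalences. -/
noncomputable def precompHomotopyEquiv {E P : DRing.Cx A} (e : HomotopyEquiv E P)
    (K : DRing.Cx A) : HomotopyEquiv (DRing.homCx P K) (DRing.homCx E K) where
  hom := precomp e.hom K
  inv := precomp e.inv K
  homotopyHomInvId := (Homotopy.ofEq (precomp_comp e.inv e.hom K).symm).trans
    ((precompHomotopy e.homotopyInvHomId K).trans (Homotopy.ofEq (precomp_id P K)))
  homotopyInvHomId := (Homotopy.ofEq (precomp_comp e.hom e.inv K).symm).trans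
    ((precompHomotopy e.homotopyHomInvId K).trans (Homotopy.ofEq (precomp_id E K)))

/-- Two K-projective complexes with isomorphic images in `D(A)` are homotopy equivalent. -/
lemma nonempty_homotopyEquiv_of_iso (E P : DRing.Cx A) [E.IsKProjective] [P.IsKProjective]
    (e : DerivedCategory.Q.obj E ≅ DerivedCategory.Q.obj P) : Nonempty (HomotopyEquiv E P) := by
  obtain ⟨f, hf⟩ := Q_map_surjective E P e.hom
  haveI : IsIso (DerivedCategory.Q.map f) := by
    rw [hf]
    infer_instance
  have hq : QuasiIso f := (DerivedCategory.isIso_Q_map_iff_quasiIso _ f).1 inferInstance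
  obtain ⟨he, -⟩ := (CochainComplex.IsKProjective.quasiIso_iff f).1 hq
  exact ⟨he⟩

/-- `Hom•(P, K)` is K-flat for `K` K-flat and `P` a bounded above complex of projectives with
perfect image in `D(A)`. -/
theorem kflat_homCx_of_perfect (P K : DRing.Cx A) (b : ℤ) (hPb : DRing.VanishesAbove P b)
    (hPp : ∀ i : ℤ, Module.Projective A (P.X i)) (hperf : DRing.IsPerfect A (DRing.toD P))
    (hK : ∀ L : DRing.Cx A, (∀ i : ℤ, IsZero (L.homology i)) →
      ∀ i : ℤ, IsZero ((L ⊗ K).homology i))
    (L : DRing.Cx A) (hL : ∀ i : ℤ, IsZero (L.homology i)) (i : ℤ) :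
    IsZero ((L ⊗ DRing.homCx P K).homology i) := by
  obtain ⟨E, a, b', hE, hfp, ⟨e⟩⟩ := hperf
  haveI : P.IsKProjective :=
    Groth.Agent.Lib.Helper32.LBC.isKProjective_of_vanishesAbove P b hPb hPp
  haveI : E.IsKProjective := Groth.Agent.Lib.Helper32.LBC.isKProjective_of_vanishesAbove E b'
    (fun i hi => hE i (Or.inr hi)) (fun i => (hfp i).2)
  obtain ⟨he⟩ := nonempty_homotopyEquiv_of_iso E P e
  have hLK : (L ⊗ K).Acyclic := fun j => by
    rw [HomologicalComplex.exactAt_iff_isZero_homology]
    exact hK L hL j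
  have hacy := acyclic_homCx E (L ⊗ K) hLK
  haveI := isIso_canon' L K E a b' hE hfp
  have h1 : IsZero ((DRing.homCx E (L ⊗ K)).homology i) := by
    rw [← HomologicalComplex.exactAt_iff_isZero_homology]
    exact hacy i
  have h2 : IsZero ((L ⊗ DRing.homCx E K).homology i) :=
    h1.of_iso ((HomologicalComplex.homologyFunctor _ _ i).mapIso (asIso (canon L K E)))
  exact h2.of_iso
    ((TensCx.whiskerLeftHomotopyEquiv L (precompHomotopyEquiv he K)).toHomologyIso i)

end Groth.Agent.Lib.Helper90.DTen
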