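import Groth.Agent.Lib.Helper90.DTen.CxAdj
import Groth.Agent.Lib.Helper26.DTenCurry
import Groth.Agent.Lib.Helper26.DTenAssoc
import Groth.Agent.Lib.Helper28.KProjFlat
import Groth.Agent.Lib.Helper28.TensCx5
import Groth.Agent.Lib.Helper32.LBC

/-!
# Derived tensor product on `D(A)`: naturality of the associator, compatibility with the
complex-level associator, and the counit at K-projective complexes (helper90)
-/

set_option autoImplicit false
set_option linter.style.haveILetI false
set_option linter.unusedSectionVars false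
universe u
open CategoryTheory CategoryTheory.Limits MonoidalCategory Opposite
attribute [local instance] HasDerivedCategory.standard

namespace Groth.Agent.Lib.Helper90.DTen

open _root_.DTen

variable {A : Type u} [CommRing A] [HasLTen A] [HasLTen₃ A] [IsSymMonoidal A]

/-- Shorthand: the derived tensor product of two maps. -/
noncomputable abbrev tmap {a a' b b' : Dual.D A} (f : a ⟶ a') (g : b ⟶ b') :
    (LTen₂ A).obj (a, b) ⟶ (LTen₂ A).obj (a', b') :=
  (LTen₂ A).map (Prod.mkHom f g)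

lemma tmap_comp {a a' a'' b b' b'' : Dual.D A} (f : a ⟶ a') (f' : a' ⟶ a'') (g : b ⟶ b')
    (g' : b' ⟶ b'') : tmap (f ≫ f') (g ≫ g') = tmap f g ≫ tmap f' g' := by
  dsimp only [tmap]
  rw [← Functor.map_comp]
  rfl

lemma tmap_id (a b : Dual.D A) : tmap (𝟙 a) (𝟙 b) = 𝟙 ((LTen₂ A).obj (a, b)) :=
  (LTen₂ A).map_id (a, b)

omit [HasLTen₃ A] [IsSymMonoidal A] in
lemma isIso_tmap {a a' b b' : Dual.D A} (f : a ⟶ a') (g : b ⟶ b') [IsIso f] [IsIso g] :
    IsIso (tmap f g) := by
  haveI : IsIso (Prod.mkHom f g : (a, b) ⟶ (a', b')) := (isIso_prod_iff _ _).2 ⟨‹_›, ‹_›⟩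
  dsimp only [tmap]
  infer_instance

/-- Naturality of the associator in all three variables. -/
lemma associator_naturality {a a' b b' c c' : Dual.D A} (f : a ⟶ a') (g : b ⟶ b') (h : c ⟶ c') :
    tmap (tmap f g) h ≫ (associator a' b' c').hom =
      (associator a b c).hom ≫ tmap f (tmap g h) := by
  have hL := (assocL A).naturality
    (Prod.mkHom f (Prod.mkHom g h) : (a, (b, c)) ⟶ (a', (b', c')))
  have hR := (assocR A).naturality
    (Prod.mkHom f (Prod.mkHom g h) : (a, (b, c)) ⟶ (a', (b', c')))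
  have eR : (LTenR A).map
      (Prod.mkHom f (Prod.mkHom g h) : (a, (b, c)) ⟶ (a', (b', c'))) = tmap f (tmap g h) := rfl
  have eL : (LTenL A).map
      (Prod.mkHom f (Prod.mkHom g h) : (a, (b, c)) ⟶ (a', (b', c'))) = tmap (tmap f g) h := rfl
  rw [eL] at hL
  rw [eR] at hR
  apply (cancel_mono ((assocR A).app (a', (b', c')))).1
  have s0 : (tmap (tmap f g) h ≫ (associator a' b' c').hom) ≫ (assocR A).app (a', (b', c'))
      = tmap (tmap f g) h ≫ ((associator a' b' c').hom ≫ (assocR A).app (a', (b', c'))) :=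
    Category.assoc _ _ _
  have s1 := congrArg (fun t => tmap (tmap f g) h ≫ t) (associator_hom_assocR a' b' c')
  have s3 := congrArg (fun t => t ≫ (LTen₃ A).map
    (Prod.mkHom f (Prod.mkHom g h) : (a, (b, c)) ⟶ (a', (b', c'))))
    (associator_hom_assocR a b c)
  have s4 : ((associator a b c).hom ≫ (assocR A).app (a, (b, c))) ≫ (LTen₃ A).map
        (Prod.mkHom f (Prod.mkHom g h) : (a, (b, c)) ⟶ (a', (b', c'))) =
      (associator a b c).hom ≫ ((assocR A).app (a, (b, c)) ≫ (LTen₃ A).map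
        (Prod.mkHom f (Prod.mkHom g h) : (a, (b, c)) ⟶ (a', (b', c')))) :=
    Category.assoc _ _ _
  have s5 := congrArg (fun t => (associator a b c).hom ≫ t) hR
  have s6 : (associator a b c).hom ≫ (tmap f (tmap g h) ≫ (assocR A).app (a', (b', c'))) =
      ((associator a b c).hom ≫ tmap f (tmap g h)) ≫ (assocR A).app (a', (b', c')) :=
    (Category.assoc _ _ _).symm
  exact s0.trans (s1.trans (hL.trans (s3.symm.trans (s4.trans (s5.symm.trans s6)))))

/-- Shorthand for the counit `QK ⊗^L QL ⟶ Q(K ⊗ L)`. -/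
noncomputable abbrev eps (K L : DRing.Cx A) :
    (LTen₂ A).obj (DerivedCategory.Q.obj K, DerivedCategory.Q.obj L) ⟶ DerivedCategory.Q.obj (K ⊗ L) :=
  (ε A).app (K, L)

/-- Compatibility of the associator of `D(A)` with the associator of complexes, through the counits. -/
lemma associator_eps (K L M : DRing.Cx A) :
    (associator (DerivedCategory.Q.obj K) (DerivedCategory.Q.obj L) (DerivedCategory.Q.obj M)).hom ≫
        tmap (𝟙 (DerivedCategory.Q.obj K)) (eps L M) ≫ eps K (L ⊗ M) =
      tmap (eps K L) (𝟙 (DerivedCategory.Q.obj M)) ≫ eps (K ⊗ L) M ≫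
        DerivedCategory.Q.map (α_ K L M).hom := by
  have hL := assocL_fac A (K, (L, M))
  have hR := assocR_fac A (K, (L, M))
  have eR : (βR A).app (K, (L, M)) =
      tmap (𝟙 (DerivedCategory.Q.obj K)) (eps L M) ≫ eps K (L ⊗ M) := rfl
  have eL : (βL A).app (K, (L, M)) = tmap (eps K L) (𝟙 (DerivedCategory.Q.obj M)) ≫ eps (K ⊗ L) M ≫
        DerivedCategory.Q.map (α_ K L M).hom := rfl
  rw [← eR, ← eL, ← hR, ← hL]
  exact associator_hom_assocR_assoc _ _ _ _

section Eps

omit [HasLTen₃ A] [IsSymMonoidal A]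

open Groth.Agent.Lib.Helper28 Groth.Agent.Lib.Helper26.DTenKProj

lemma eps_naturality {K K' L L' : DRing.Cx A} (f : K ⟶ K') (g : L ⟶ L') :
    tmap (DerivedCategory.Q.map f) (DerivedCategory.Q.map g) ≫ eps K' L' =
      eps K L ≫ DerivedCategory.Q.map (f ⊗ₘ g) := by
  have h := (ε A).naturality (Prod.mkHom f g : (K, L) ⟶ (K', L'))
  have e1 : (tensor₂ A).map (Prod.mkHom f g : (K, L) ⟶ (K', L')) =
      DerivedCategory.Q.map (f ⊗ₘ g) := by
    dsimp [tensor₂, tensorT]
    rw [MonoidalCategory.tensorHom_def]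
  rw [e1] at h
  exact h

lemma quasiIso_whiskerLeft_of_isKProjective (P : DRing.Cx A) [P.IsKProjective] {M N : DRing.Cx A}
    (s : M ⟶ N) [QuasiIso s] : QuasiIso (P ◁ s) :=
  TensCx.quasiIso_whiskerLeft P
    (fun C hC => KProjFlat.acyclic_tensor_left_of_kflat P (KProjFlat.kflat_of_isKProjective P) C hC) s

lemma quasiIso_whiskerRight_of_isKProjective (P : DRing.Cx A) [P.IsKProjective] {M N : DRing.Cx A}
    (s : M ⟶ N) [QuasiIso s] : QuasiIso (s ▷ P) :=
  TensCx.quasiIso_whiskerRight_of_kflat s P (KProjFlat.kflat_of_isKProjective P)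

/-- The counit `QP ⊗^L QY ⟶ Q(P ⊗ Y)` is an isomorphism for `P` K-projective, `Y` arbitrary. -/
lemma isIso_eps_left (P Y : DRing.Cx A) [P.IsKProjective] : IsIso (eps P Y) := by
  obtain ⟨P', s, hP', hs⟩ := hasKProjRes A Y
  have h := eps_naturality (𝟙 P) s
  haveI := quasiIso_whiskerLeft_of_isKProjective P s
  have e1 : (𝟙 P ⊗ₘ s) = P ◁ s := MonoidalCategory.id_tensorHom P s
  rw [e1] at h
  haveI : IsIso (eps P P') := isIso_ε A P P'
  haveI : IsIso (DerivedCategory.Q.map s) :=
    Localization.inverts _ (qis A) _ ((HomologicalComplex.mem_quasiIso_iff _).2 hs)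
  haveI : IsIso (DerivedCategory.Q.map (P ◁ s)) :=
    Localization.inverts _ (qis A) _ ((HomologicalComplex.mem_quasiIso_iff _).2 inferInstance)
  haveI : IsIso (tmap (DerivedCategory.Q.map (𝟙 P)) (DerivedCategory.Q.map s)) :=
    isIso_tmap _ _
  have h2 : eps P Y = inv (tmap (DerivedCategory.Q.map (𝟙 P)) (DerivedCategory.Q.map s)) ≫
      eps P P' ≫ DerivedCategory.Q.map (P ◁ s) := by
    rw [← h, IsIso.inv_hom_id_assoc]
  rw [h2]
  infer_instance

end Eps

end Groth.Agent.Lib.Helper90.DTen
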