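import Groth.Agent.Lib.Helper90.DTen.Rho

/-!
# `evalTen` on images of complexes corresponds to the canonical map of complexes
`K ⊗ Hom•(M, L) ⟶ Hom•(M, K ⊗ L)` (helper90)
-/

set_option autoImplicit false
set_option linter.style.haveILetI false
set_option linter.unusedSectionVars false
universe u
open CategoryTheory CategoryTheory.Limits MonoidalCategory Opposite
attribute [local instance] HasDerivedCategory.standard

namespace Groth.Agent.Lib.Helper90.DTen

open _root_.DTen Groth.Agent.Lib.Helper26.TensorHomCx Groth.Agent.Lib.Helper26.KProjQ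
  Groth.Agent.Lib.Helper26.DTenKProj

variable {A : Type u} [CommRing A]

/-- The canonical map of complexes `K ⊗ Hom•(M, L) ⟶ Hom•(M, K ⊗ L)`. -/
noncomputable def canon (K L M : DRing.Cx A) :
    K ⊗ DRing.homCx M L ⟶ DRing.homCx M (K ⊗ L) :=
  curryHom ((α_ K (DRing.homCx M L) M).hom ≫ K ◁ evCx M L)

variable [HasLTen A] [HasLTen₃ A] [IsSymMonoidal A] [HasRHom A]


/-- the adjunct of a map into `RHom`. -/
lemma rhomHomEquiv_symm_apply {X M Y : Dual.D A} (φ : X ⟶ (RHomR A M).obj Y) :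
    (rhomHomEquiv X M Y).symm φ = tmap φ (𝟙 M) ≫ ev M Y :=
  (rhomAdj A M).homEquiv_counit X Y φ

lemma tmap_RHomR_map_ev {M Y Y' : Dual.D A} (f : Y ⟶ Y') :
    tmap ((RHomR A M).map f) (𝟙 M) ≫ ev M Y' = ev M Y ≫ f :=
  (rhomAdj A M).counit.naturality f

lemma tmap_comp_left {a a' a'' : Dual.D A} (f : a ⟶ a') (f' : a' ⟶ a'') (b : Dual.D A) :
    tmap (f ≫ f') (𝟙 b) = tmap f (𝟙 b) ≫ tmap f' (𝟙 b) := by
  rw [← tmap_comp, Category.comp_id]

lemma tmap_comp_right (a : Dual.D A) {b b' b'' : Dual.D A} (g : b ⟶ b') (g' : b' ⟶ b'') :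
    tmap (𝟙 a) (g ≫ g') = tmap (𝟙 a) g ≫ tmap (𝟙 a) g' := by
  rw [← tmap_comp, Category.comp_id]

omit [HasLTen₃ A] [IsSymMonoidal A] [HasRHom A] in
lemma eps_naturality_right (K : DRing.Cx A) {L L' : DRing.Cx A} (g : L ⟶ L') :
    tmap (𝟙 (DerivedCategory.Q.obj K)) (DerivedCategory.Q.map g) ≫ eps K L' =
      eps K L ≫ DerivedCategory.Q.map (K ◁ g) := by
  have h := eps_naturality (𝟙 K) g
  rw [CategoryTheory.Functor.map_id, MonoidalCategory.id_tensorHom] at h
  exact h

omit [HasLTen₃ A] [IsSymMonoidal A] [HasRHom A] in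
lemma eps_naturality_left {K K' : DRing.Cx A} (f : K ⟶ K') (L : DRing.Cx A) :
    tmap (DerivedCategory.Q.map f) (𝟙 (DerivedCategory.Q.obj L)) ≫ eps K' L =
      eps K L ≫ DerivedCategory.Q.map (f ▷ L) := by
  have h := eps_naturality f (𝟙 L)
  rw [CategoryTheory.Functor.map_id, MonoidalCategory.tensorHom_id] at h
  exact h

lemma evalTen_cx (K L M : DRing.Cx A) :
    tmap (𝟙 (DerivedCategory.Q.obj K)) (rho M L) ≫ evalTen (DerivedCategory.Q.obj K) (DerivedCategory.Q.obj L) (DerivedCategory.Q.obj M) ≫ (RHomR A (DerivedCategory.Q.obj M)).map (eps K L) =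
      eps K (DRing.homCx M L) ≫ DerivedCategory.Q.map (canon K L M) ≫ rho M (K ⊗ L) := by
  apply (rhomHomEquiv _ _ _).symm.injective
  rw [rhomHomEquiv_symm_apply, rhomHomEquiv_symm_apply]
  -- the common value
  have hR : tmap (eps K (DRing.homCx M L) ≫ DerivedCategory.Q.map (canon K L M) ≫ rho M (K ⊗ L))
        (𝟙 (DerivedCategory.Q.obj M)) ≫ ev (DerivedCategory.Q.obj M) (DerivedCategory.Q.obj (K ⊗ L)) =
      tmap (eps K (DRing.homCx M L)) (𝟙 (DerivedCategory.Q.obj M)) ≫ eps (K ⊗ DRing.homCx M L) M ≫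
        DerivedCategory.Q.map ((α_ K (DRing.homCx M L) M).hom ≫ K ◁ evCx M L) := by
    rw [tmap_comp_left, tmap_comp_left, Category.assoc, Category.assoc, rho_fac,
      ← Category.assoc (tmap (DerivedCategory.Q.map (canon K L M)) _), eps_naturality_left,
      Category.assoc, ← Functor.map_comp, ← uncurryHom_eq, canon, uncurryHom_curryHom]
  rw [hR]
  have h1 : tmap (tmap (𝟙 (DerivedCategory.Q.obj K)) (rho M L) ≫
        evalTen (DerivedCategory.Q.obj K) (DerivedCategory.Q.obj L) (DerivedCategory.Q.obj M) ≫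
          (RHomR A (DerivedCategory.Q.obj M)).map (eps K L)) (𝟙 (DerivedCategory.Q.obj M)) =
      tmap (tmap (𝟙 (DerivedCategory.Q.obj K)) (rho M L)) (𝟙 (DerivedCategory.Q.obj M)) ≫
        tmap (evalTen (DerivedCategory.Q.obj K) (DerivedCategory.Q.obj L) (DerivedCategory.Q.obj M))
          (𝟙 (DerivedCategory.Q.obj M)) ≫
        tmap ((RHomR A (DerivedCategory.Q.obj M)).map (eps K L)) (𝟙 (DerivedCategory.Q.obj M)) := by
    rw [tmap_comp_left, tmap_comp_left]
  have h2 := tmap_RHomR_map_ev (M := DerivedCategory.Q.obj M) (eps K L)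
  have h3 : tmap (evalTen (DerivedCategory.Q.obj K) (DerivedCategory.Q.obj L) (DerivedCategory.Q.obj M))
        (𝟙 (DerivedCategory.Q.obj M)) ≫
      ev (DerivedCategory.Q.obj M) ((LTen₂ A).obj (DerivedCategory.Q.obj K, DerivedCategory.Q.obj L)) =
      (associator (DerivedCategory.Q.obj K) ((RHomR A (DerivedCategory.Q.obj M)).obj (DerivedCategory.Q.obj L))
        (DerivedCategory.Q.obj M)).hom ≫
        tmap (𝟙 (DerivedCategory.Q.obj K)) (ev (DerivedCategory.Q.obj M) (DerivedCategory.Q.obj L)) :=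
    evalTen_fac _ _ _
  have h4 := associator_naturality (𝟙 (DerivedCategory.Q.obj K)) (rho M L) (𝟙 (DerivedCategory.Q.obj M))
  have h5 : tmap (𝟙 (DerivedCategory.Q.obj K)) (tmap (rho M L) (𝟙 (DerivedCategory.Q.obj M))) ≫
      tmap (𝟙 (DerivedCategory.Q.obj K)) (ev (DerivedCategory.Q.obj M) (DerivedCategory.Q.obj L)) =
      tmap (𝟙 (DerivedCategory.Q.obj K)) (eps (DRing.homCx M L) M) ≫
        tmap (𝟙 (DerivedCategory.Q.obj K)) (DerivedCategory.Q.map (evCx M L)) := by
    rw [← tmap_comp_right, ← tmap_comp_right, rho_fac]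
  have h6 := eps_naturality_right K (evCx M L)
  have h7 := associator_eps K (DRing.homCx M L) M
  rw [h1, Category.assoc, Category.assoc, h2, reassoc_of% h3, reassoc_of% h4, reassoc_of% h5, h6,
    reassoc_of% h7, Functor.map_comp]

end Groth.Agent.Lib.Helper90.DTen
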