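import Groth.Agent.Lib.Helper90.DTen.CanonIso

/-!
# The canonical map `K ⊗ Hom•(E, L) ⟶ Hom•(E, K ⊗ L)` is an isomorphism of complexes when `E` is
bounded with finite projective terms (helper90)
-/

set_option autoImplicit false
set_option linter.style.haveILetI false
set_option linter.unusedSectionVars false
universe u
open CategoryTheory CategoryTheory.Limits MonoidalCategory CochainComplex CochainComplex.HomComplex
open scoped TensorProduct

namespace Groth.Agent.Lib.Helper90.DTen

open Groth.Agent.Lib.Helper26.TensorHomCx Groth.Agent.Lib.Helper28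

variable {A : Type u} [CommRing A]

section Single

variable (E L : DRing.Cx A)

/-- The cochain `E → L` of degree `r` concentrated in degree `q`, given by `m ↦ φ m • y`. -/
noncomputable def singleCochain (r q s : ℤ) (hq : q + r = s) (φ : E.X q →ₗ[A] A) :
    L.X s →ₗ[A] Cochain E L r where
  toFun y := Cochain.mk (fun q' s' hq' => if h : q' = q then
      (HomologicalComplex.XIsoOfEq E h).hom ≫ ModuleCat.ofHom (φ.smulRight y) ≫
        (HomologicalComplex.XIsoOfEq L (show s = s' by omega)).hom else 0)
  map_add' y y' := by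
    refine Cochain.ext _ _ (fun q' s' hq' => ?_)
    rw [Cochain.add_v, Cochain.mk_v, Cochain.mk_v, Cochain.mk_v]
    by_cases h : q' = q
    · rw [dif_pos h, dif_pos h, dif_pos h]
      have : φ.smulRight (y + y') = φ.smulRight y + φ.smulRight y' := by ext; simp
      rw [this, ModuleCat.ofHom_add, Preadditive.add_comp, Preadditive.comp_add]
    · rw [dif_neg h, dif_neg h, dif_neg h, add_zero]
  map_smul' c y := by
    refine Cochain.ext _ _ (fun q' s' hq' => ?_)
    rw [Cochain.smul_v, Cochain.mk_v, Cochain.mk_v]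
    by_cases h : q' = q
    · rw [dif_pos h, dif_pos h]
      subst h
      obtain rfl : s = s' := by omega
      apply ModuleCat.hom_ext
      apply LinearMap.ext
      intro m
      simp only [HomologicalComplex.XIsoOfEq_rfl, Iso.refl_hom, Category.id_comp, Category.comp_id]
      change φ m • (c • y) = c • (φ m • y)
      exact smul_comm _ _ _
    · rw [dif_neg h, dif_neg h, RingHom.id_apply, smul_zero]

lemma singleCochain_v (r q s : ℤ) (hq : q + r = s) (φ : E.X q →ₗ[A] A) (y : L.X s)
    (q' s' : ℤ) (hq' : q' + r = s') :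
    (singleCochain E L r q s hq φ y).v q' s' hq' = if h : q' = q then
      (HomologicalComplex.XIsoOfEq E h).hom ≫ ModuleCat.ofHom (φ.smulRight y) ≫
        (HomologicalComplex.XIsoOfEq L (show s = s' by omega)).hom else 0 := rfl

/-- `singleCochain` as a morphism of `ModuleCat`. -/
noncomputable def singleHom (r q s : ℤ) (hq : q + r = s) (φ : E.X q →ₗ[A] A) :
    L.X s ⟶ (DRing.homCx E L).X r :=
  ModuleCat.ofHom (singleCochain E L r q s hq φ)

lemma singleHom_hom (r q s : ℤ) (hq : q + r = s) (φ : E.X q →ₗ[A] A) :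
    (singleHom E L r q s hq φ).hom = singleCochain E L r q s hq φ := rfl

lemma evAt_singleCochain_self (r q s : ℤ) (hq : q + r = s) (φ : E.X q →ₗ[A] A) (y : L.X s)
    (m : E.X q) :
    (evAt E L r q s hq m).hom (singleCochain E L r q s hq φ y) = φ m • y := by
  rw [evAt_apply]
  change ((singleCochain E L r q s hq φ y).v q s hq).hom m = _
  rw [singleCochain_v, dif_pos rfl]
  simp [HomologicalComplex.XIsoOfEq_rfl]

lemma evAt_singleCochain_ne (r q s : ℤ) (hq : q + r = s) (φ : E.X q →ₗ[A] A) (y : L.X s)
    (q' s' : ℤ) (hq' : q' + r = s') (hne : q' ≠ q) (m : E.X q') :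
    (evAt E L r q' s' hq' m).hom (singleCochain E L r q s hq φ y) = 0 := by
  rw [evAt_apply]
  change ((singleCochain E L r q s hq φ y).v q' s' hq').hom m = _
  rw [singleCochain_v, dif_neg hne]
  rfl

lemma evAt_singleHom_self (r q s : ℤ) (hq : q + r = s) (φ : E.X q →ₗ[A] A) (y : L.X s)
    (m : E.X q) :
    (evAt E L r q s hq m).hom ((singleHom E L r q s hq φ).hom y) = φ m • y :=
  evAt_singleCochain_self E L r q s hq φ y m

lemma evAt_singleHom_ne (r q s : ℤ) (hq : q + r = s) (φ : E.X q →ₗ[A] A) (y : L.X s)
    (q' s' : ℤ) (hq' : q' + r = s') (hne : q' ≠ q) (m : E.X q') :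
    (evAt E L r q' s' hq' m).hom ((singleHom E L r q s hq φ).hom y) = 0 :=
  evAt_singleCochain_ne E L r q s hq φ y q' s' hq' hne m

end Single

section Recon

variable (E L : DRing.Cx A) (a b : ℤ) (hE : ∀ q, q < a ∨ b < q → IsZero (E.X q))
  (k : ℤ → ℕ) (e : ∀ q, Fin (k q) → E.X q) (φ : ∀ q, Fin (k q) → E.X q →ₗ[A] A)
  (hφ : ∀ q x, ∑ i, φ q i x • e q i = x)

include hφ in
lemma dualBasis_apply {X : Type*} [AddCommGroup X] [Module A X] (q : ℤ) (g : E.X q →ₗ[A] X)
    (m : E.X q) : ∑ j, φ q j m • g (e q j) = g m := by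
  conv_rhs => rw [← hφ q m, map_sum]
  refine Finset.sum_congr rfl (fun j _ => ?_)
  rw [map_smul]

include hE hφ in
lemma sum_singleHom_evAt (r : ℤ) (w : (DRing.homCx E L).X r) :
    ∑ q ∈ Finset.Icc a b, ∑ j, (singleHom E L r q (q + r) rfl (φ q j)).hom
      ((evAt E L r q (q + r) rfl (e q j)).hom w) = w := by
  classical
  refine Cochain.ext _ _ (fun q' s' hq' => ?_)
  apply ModuleCat.hom_ext
  apply LinearMap.ext
  intro m
  subst hq'
  change (evAt E L r q' (q' + r) rfl m).hom
    (∑ q ∈ Finset.Icc a b, ∑ j, (singleHom E L r q (q + r) rfl (φ q j)).hom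
      ((evAt E L r q (q + r) rfl (e q j)).hom w)) = (evAt E L r q' (q' + r) rfl m).hom w
  rw [map_sum]
  by_cases hq' : q' ∈ Finset.Icc a b
  · rw [Finset.sum_eq_single q']
    · rw [map_sum]
      have h1 : ∀ j, (evAt E L r q' (q' + r) rfl m).hom
          ((singleHom E L r q' (q' + r) rfl (φ q' j)).hom
            ((evAt E L r q' (q' + r) rfl (e q' j)).hom w)) =
          φ q' j m • ((toCochain w).v q' (q' + r) rfl).hom (e q' j) := fun j => by
        rw [evAt_singleHom_self]
        rfl
      rw [Finset.sum_congr rfl (fun j _ => h1 j),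
        dualBasis_apply E k e φ hφ q' ((toCochain w).v q' (q' + r) rfl).hom m]
      rfl
    · intro q _ hne
      rw [map_sum]
      refine Finset.sum_eq_zero (fun j _ => ?_)
      exact evAt_singleHom_ne E L r q (q + r) rfl (φ q j) _ q' (q' + r) rfl (Ne.symm hne) m
    · intro h
      exact absurd hq' h
  · have hsub : Subsingleton (E.X q') := by
      apply ModuleCat.subsingleton_of_isZero
      apply hE
      rw [Finset.mem_Icc] at hq'
      omega
    have hm : m = 0 := Subsingleton.elim _ _
    subst hm
    rw [evAt_apply, map_zero]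
    refine Finset.sum_eq_zero (fun q _ => ?_)
    rw [evAt_apply, map_zero]

include hE hφ in
lemma sum_lTensor_single_evAt (r : ℤ) (N : Type u) [AddCommGroup N] [Module A N]
    (u : N ⊗[A] (DRing.homCx E L).X r) :
    ∑ q ∈ Finset.Icc a b, ∑ j, (singleHom E L r q (q + r) rfl (φ q j)).hom.lTensor N
      (((evAt E L r q (q + r) rfl (e q j)).hom).lTensor N u) = u := by
  induction u using TensorProduct.induction_on with
  | zero => simp
  | tmul x w =>
    simp only [LinearMap.lTensor_tmul]
    have h := sum_singleHom_evAt E L a b hE k e φ hφ r w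
    simp only [← TensorProduct.tmul_sum]
    exact congrArg (fun t => x ⊗ₜ[A] t) h
  | add u v hu hv =>
    simp only [map_add, Finset.sum_add_distrib, hu, hv]

end Recon

theorem injective_canon_f' (K L E : DRing.Cx A) (a b : ℤ)
    (hE : ∀ q, q < a ∨ b < q → IsZero (E.X q))
    (hfp : ∀ q, Module.Finite A (E.X q) ∧ Module.Projective A (E.X q)) (n : ℤ) :
    Function.Injective ((canon K L E).f n).hom := by
  classical
  rw [injective_iff_map_eq_zero]
  intro z hz
  apply TensCx.eq_zero_of_proj_eq_zero
  intro p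
  choose k e φ hφ using fun q => (by
    haveI := (hfp q).1
    haveI := (hfp q).2
    exact exists_dualBasis (A := A) (E.X q))
  have hu := sum_lTensor_single_evAt E L a b hE k e φ hφ (n - p) (K.X p)
    ((TensCx.proj K (DRing.homCx E L) p (n - p) n (by omega)).hom z)
  refine hu.symm.trans (Finset.sum_eq_zero (fun q _ => Finset.sum_eq_zero (fun j _ => ?_)))
  have h1 := canon_evAt_proj_apply K L E p (n - p) n q (q + n) (q + (n - p)) (by omega) rfl rfl
    (e q j) z
  rw [← h1, hz]
  have e0 : (toCochain (0 : (DRing.homCx E (K ⊗ L)).X n)).v q (q + n) rfl = 0 :=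
    Cochain.zero_v _ _ _
  rw [e0]
  simp

section TensSingle

variable (K E L : DRing.Cx A) (n q n' : ℤ) (hq' : q + n = n') (φ : E.X q →ₗ[A] A)

/-- `K ⊗ (singleCochain)`, as a map `(K ⊗ L)^{n'} ⟶ (K ⊗ Hom•(E, L))^n`. -/
noncomputable def tensSingle : (K ⊗ L).X n' ⟶ (K ⊗ DRing.homCx E L).X n :=
  HomologicalComplex.mapBifunctorDesc (fun p s hps =>
    (K.X p ◁ singleHom E L (s - q) q s (by omega) φ) ≫
      TensCx.ι K (DRing.homCx E L) p (s - q) n (by have : p + s = n' := hps; omega))

lemma ι_tensSingle (p s r : ℤ) (hps : p + s = n') (hr : q + r = s) :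
    TensCx.ι K L p s n' hps ≫ tensSingle K E L n q n' hq' φ =
      (K.X p ◁ singleHom E L r q s hr φ) ≫
        TensCx.ι K (DRing.homCx E L) p r n (by omega) := by
  obtain rfl : r = s - q := by omega
  dsimp only [TensCx.ι, tensSingle]
  erw [HomologicalComplex.ι_mapBifunctorDesc]

lemma tensSingle_proj (p r s : ℤ) (hpr : p + r = n) (hr : q + r = s) :
    tensSingle K E L n q n' hq' φ ≫ TensCx.proj K (DRing.homCx E L) p r n hpr =
      TensCx.proj K L p s n' (by omega) ≫ (K.X p ◁ singleHom E L r q s hr φ) := by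
  apply TensCx.hom_ext
  intro p'' s'' hps''
  rw [← Category.assoc, ι_tensSingle K E L n q n' hq' φ p'' s'' (s'' - q) hps'' (by omega),
    Category.assoc]
  by_cases hp : p'' = p
  · subst hp
    obtain rfl : s'' = s := by omega
    obtain rfl : r = s'' - q := by omega
    rw [TensCx.ι_proj_self, Category.comp_id, ← Category.assoc, TensCx.ι_proj_self,
      Category.id_comp]
  · rw [TensCx.ι_proj_ne K (DRing.homCx E L) p'' (s'' - q) p r n (by omega) hpr hp, comp_zero,
      ← Category.assoc, TensCx.ι_proj_ne K L p'' s'' p s n' hps'' (by omega) hp, zero_comp]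

end TensSingle

lemma lTensor_evAt_single_self (E L : DRing.Cx A) (N : Type u) [AddCommGroup N] [Module A N]
    (r q s : ℤ) (hq : q + r = s) (φ : E.X q →ₗ[A] A) (m : E.X q) (x : N ⊗[A] L.X s) :
    ((evAt E L r q s hq m).hom.lTensor N) ((singleHom E L r q s hq φ).hom.lTensor N x) =
      φ m • x := by
  rw [← LinearMap.lTensor_comp_apply]
  have h : (evAt E L r q s hq m).hom ∘ₗ (singleHom E L r q s hq φ).hom =
      φ m • LinearMap.id := by
    apply LinearMap.ext
    intro y
    exact evAt_singleHom_self E L r q s hq φ y m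
  rw [h, LinearMap.lTensor_smul, LinearMap.lTensor_id]
  rfl

lemma lTensor_evAt_single_ne (E L : DRing.Cx A) (N : Type u) [AddCommGroup N] [Module A N]
    (r q s : ℤ) (hq : q + r = s) (φ : E.X q →ₗ[A] A) (q' s' : ℤ) (hq' : q' + r = s')
    (hne : q' ≠ q) (m : E.X q') (x : N ⊗[A] L.X s) :
    ((evAt E L r q' s' hq' m).hom.lTensor N) ((singleHom E L r q s hq φ).hom.lTensor N x) =
      0 := by
  rw [← LinearMap.lTensor_comp_apply]
  have h : (evAt E L r q' s' hq' m).hom ∘ₗ (singleHom E L r q s hq φ).hom = 0 := by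
    apply LinearMap.ext
    intro y
    exact evAt_singleHom_ne E L r q s hq φ y q' s' hq' hne m
  rw [h, LinearMap.lTensor_zero]
  rfl

theorem surjective_canon_f' (K L E : DRing.Cx A) (a b : ℤ)
    (hE : ∀ q, q < a ∨ b < q → IsZero (E.X q))
    (hfp : ∀ q, Module.Finite A (E.X q) ∧ Module.Projective A (E.X q)) (n : ℤ) :
    Function.Surjective ((canon K L E).f n).hom := by
  classical
  intro c
  choose k e φ hφ using fun q => (by
    haveI := (hfp q).1
    haveI := (hfp q).2
    exact exists_dualBasis (A := A) (E.X q))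
  let z : (K ⊗ DRing.homCx E L).X n := ∑ q ∈ Finset.Icc a b, ∑ j,
    (tensSingle K E L n q (q + n) rfl (φ q j)).hom (((toCochain c).v q (q + n) rfl).hom (e q j))
  refine ⟨z, ?_⟩
  refine Cochain.ext _ _ (fun q' n' hq' => ?_)
  subst hq'
  apply ModuleCat.hom_ext
  apply LinearMap.ext
  intro m
  rw [← sub_eq_zero]
  apply TensCx.eq_zero_of_proj_eq_zero
  intro p'
  rw [map_sub, sub_eq_zero]
  have key : ∀ (s : ℤ) (hs : p' + s = q' + n),
      (TensCx.proj K L p' s (q' + n) hs).hom
        (((toCochain (((canon K L E).f n).hom z)).v q' (q' + n) rfl).hom m) =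
      (TensCx.proj K L p' s (q' + n) hs).hom (((toCochain c).v q' (q' + n) rfl).hom m) := by
    intro s hs
    obtain rfl : s = q' + (n - p') := by omega
    have h1 := canon_evAt_proj_apply K L E p' (n - p') n q' (q' + n) (q' + (n - p')) (by omega) rfl
      rfl m z
    refine h1.trans ?_
    have hz : (TensCx.proj K (DRing.homCx E L) p' (n - p') n (by omega)).hom z =
        ∑ q ∈ Finset.Icc a b, ∑ j,
          (singleHom E L (n - p') q (q + (n - p')) rfl (φ q j)).hom.lTensor (K.X p')
            ((TensCx.proj K L p' (q + (n - p')) (q + n) (by omega)).hom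
              (((toCochain c).v q (q + n) rfl).hom (e q j))) := by
      dsimp only [z]
      rw [map_sum]
      refine Finset.sum_congr rfl (fun q _ => ?_)
      rw [map_sum]
      refine Finset.sum_congr rfl (fun j _ => ?_)
      exact congrArg (fun t => t.hom (((toCochain c).v q (q + n) rfl).hom (e q j)))
        (tensSingle_proj K E L n q (q + n) rfl (φ q j) p' (n - p') (q + (n - p')) (by omega) rfl)
    rw [hz, map_sum]
    by_cases hq' : q' ∈ Finset.Icc a b
    · rw [Finset.sum_eq_single q']
      · rw [map_sum]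
        rw [Finset.sum_congr rfl (fun j _ => lTensor_evAt_single_self E L (K.X p') (n - p') q'
          (q' + (n - p')) rfl (φ q' j) m _)]
        exact dualBasis_apply E k e φ hφ q'
          ((TensCx.proj K L p' (q' + (n - p')) (q' + n) (by omega)).hom ∘ₗ
            ((toCochain c).v q' (q' + n) rfl).hom) m
      · intro q _ hne
        rw [map_sum]
        refine Finset.sum_eq_zero (fun j _ => ?_)
        exact lTensor_evAt_single_ne E L (K.X p') (n - p') q (q + (n - p')) rfl (φ q j) q'
          (q' + (n - p')) rfl (Ne.symm hne) m _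
      · intro h
        exact absurd hq' h
    · have hsub : Subsingleton (E.X q') := by
        apply ModuleCat.subsingleton_of_isZero
        apply hE
        rw [Finset.mem_Icc] at hq'
        omega
      have hm : m = 0 := Subsingleton.elim _ _
      subst hm
      rw [map_zero, map_zero]
      refine Finset.sum_eq_zero (fun q _ => ?_)
      rw [map_sum]
      refine Finset.sum_eq_zero (fun j _ => ?_)
      have h0 : evAt E L (n - p') q' (q' + (n - p')) rfl 0 = 0 := by
        apply ModuleCat.hom_ext
        apply LinearMap.ext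
        intro w
        rw [evAt_apply, map_zero]
        rfl
      rw [h0]
      simp
  exact key _ _

end Groth.Agent.Lib.Helper90.DTen
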