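import Groth.Agent.Lib.Helper90.DTen.EvalHomCx
import Groth.Agent.Lib.Helper90.DTen.CanonIso2

/-!
# The canonical map `Hom•(L, M) ⊗ E ⟶ Hom•(Hom•(E, L), M)` is an isomorphism of complexes when `E`
is bounded with finite projective terms (helper90)
-/

set_option autoImplicit false
set_option linter.style.haveILetI false
set_option linter.unusedSectionVars false
universe u
open CategoryTheory CategoryTheory.Limits MonoidalCategory CochainComplex CochainComplex.HomComplex
open scoped TensorProduct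

namespace Groth.Agent.Lib.Helper90.DTen

open Groth.Agent.Lib.Helper26.TensorHomCx Groth.Agent.Lib.Helper28 _root_.DTen

variable {A : Type u} [CommRing A]

lemma units_smul_hom_apply {X Y : ModuleCat.{u} A} (ε : ℤˣ) (f : X ⟶ Y) (x : X) :
    (ε • f).hom x = ε • f.hom x := by
  rcases Int.units_eq_one_or ε with rfl | rfl <;> simp

lemma curryHom_f_apply_v_apply {X Y Z : DRing.Cx A} (Φ : X ⊗ Y ⟶ Z) (n q n' : ℤ) (hq' : q + n = n')
    (z : X.X n) (m : Y.X q) :
    ((toCochain (((curryHom Φ).f n).hom z)).v q n' hq').hom m =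
      (TensCx.ι X Y n q n' (by omega) ≫ Φ.f n').hom (z ⊗ₜ[A] m) := by
  have h1 : (curryHom Φ).f n = (curry (Cochain.ofHom Φ)).v n n (add_zero n) := by
    rw [← ofHom_curryHom, Cochain.ofHom_v]
  rw [h1]
  change ((show Cochain Y Z n from ((curry (Cochain.ofHom Φ)).v n n (add_zero n)).hom z).v q n'
    hq').hom m = _
  rw [curry_v_apply, curryLin_apply_v_apply _ n n (add_zero n) z q n' hq' n' (by omega) m,
    Cochain.ofHom_v]

lemma ι_swapEv_apply (E L : DRing.Cx A) (p t s : ℤ) (hs : p + t = s) (x : E.X p)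
    (g : (DRing.homCx E L).X t) :
    (TensCx.ι E (DRing.homCx E L) p t s hs ≫ (swapEv E L).f s).hom (x ⊗ₜ[A] g) =
      (p * t).negOnePow • ((toCochain g).v p s hs).hom x := by
  have h1 : TensCx.ι E (DRing.homCx E L) p t s hs ≫ (swapEv E L).f s =
      (p * t).negOnePow • ((β_ (E.X p) ((DRing.homCx E L).X t)).hom ≫
        TensCx.ι (DRing.homCx E L) E t p s (by omega) ≫ (evCx E L).f s) := by
    rw [swapEv, HomologicalComplex.comp_f, ← Category.assoc]
    erw [ι_braidCx_hom E (DRing.homCx E L) p t s hs]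
    rw [Linear.units_smul_comp, Category.assoc]
  rw [h1, units_smul_hom_apply]
  congr 1
  change (TensCx.ι (DRing.homCx E L) E t p s (by omega) ≫ (evCx E L).f s).hom (g ⊗ₜ[A] x) = _
  rw [ι_evCx_apply]

lemma ι_ι_canonHAux (E L M : DRing.Cx A) (r p n t n' s : ℤ) (hrp : r + p = n) (ht : t + n = n')
    (hs : p + t = s) :
    (TensCx.ι (DRing.homCx L M) E r p n hrp ▷ (DRing.homCx E L).X t) ≫
        TensCx.ι (DRing.homCx L M ⊗ E) (DRing.homCx E L) n t n' (by omega) ≫
          (canonHAux E L M).f n' =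
      (α_ ((DRing.homCx L M).X r) (E.X p) ((DRing.homCx E L).X t)).hom ≫
        ((DRing.homCx L M).X r ◁ (TensCx.ι E (DRing.homCx E L) p t s hs ≫ (swapEv E L).f s)) ≫
          TensCx.ι (DRing.homCx L M) L r s n' (by omega) ≫ (evCx L M).f n' := by
  rw [canonHAux, HomologicalComplex.comp_f, HomologicalComplex.comp_f, ← Category.assoc,
    ← Category.assoc, ← Category.assoc,
    Category.assoc (TensCx.ι (DRing.homCx L M) E r p n hrp ▷ (DRing.homCx E L).X t),
    TensCx.ι_ι_associator_hom (DRing.homCx L M) E (DRing.homCx E L) r p t n s n' hrp hs (by omega)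
      (by omega),
    Category.assoc, Category.assoc, Category.assoc,
    ← Category.assoc (TensCx.ι (DRing.homCx L M) (E ⊗ DRing.homCx E L) r s n' _),
    TensCx.isDiag_whiskerLeft (DRing.homCx L M) (swapEv E L) n' r s (by omega),
    MonoidalCategory.whiskerLeft_comp, Category.assoc, Category.assoc]

lemma canonH_ι_apply (E L M : DRing.Cx A) (r p n t n' s : ℤ) (hrp : r + p = n) (ht : t + n = n')
    (hs : p + t = s) (f : (DRing.homCx L M).X r) (x : E.X p) (g : (DRing.homCx E L).X t) :
    ((toCochain (((canonH E L M).f n).hom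
      ((TensCx.ι (DRing.homCx L M) E r p n hrp).hom (f ⊗ₜ[A] x)))).v t n' ht).hom g =
    (p * t).negOnePow • ((toCochain f).v s n' (by omega)).hom (((toCochain g).v p s hs).hom x) := by
  rw [canonH, curryHom_f_apply_v_apply]
  change ((TensCx.ι (DRing.homCx L M) E r p n hrp ▷ (DRing.homCx E L).X t) ≫
        TensCx.ι (DRing.homCx L M ⊗ E) (DRing.homCx E L) n t n' (by omega) ≫
          (canonHAux E L M).f n').hom ((f ⊗ₜ[A] x) ⊗ₜ[A] g) = _
  rw [ι_ι_canonHAux E L M r p n t n' s hrp ht hs]
  change (TensCx.ι (DRing.homCx L M) L r s n' (by omega) ≫ (evCx L M).f n').hom (f ⊗ₜ[A]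
    (TensCx.ι E (DRing.homCx E L) p t s hs ≫ (swapEv E L).f s).hom (x ⊗ₜ[A] g)) = _
  rw [ι_evCx_apply, ι_swapEv_apply, map_zsmul_unit]

/-- `f ⊗ x ↦ φ x • f`, as a linear map `W ⊗ N → W`. -/
noncomputable def contr {N : Type u} [AddCommGroup N] [Module A N] (W : Type u) [AddCommGroup W]
    [Module A W] (φ : N →ₗ[A] A) : W ⊗[A] N →ₗ[A] W :=
  (TensorProduct.rid A W).toLinearMap ∘ₗ φ.lTensor W

lemma contr_tmul {N : Type u} [AddCommGroup N] [Module A N] (W : Type u) [AddCommGroup W]
    [Module A W] (φ : N →ₗ[A] A) (w : W) (x : N) : contr W φ (w ⊗ₜ[A] x) = φ x • w := by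
  simp [contr]

lemma sum_contr_tmul {N : Type u} [AddCommGroup N] [Module A N] (W : Type u) [AddCommGroup W]
    [Module A W] {k : ℕ} (e : Fin k → N) (φ : Fin k → N →ₗ[A] A)
    (h : ∀ x, ∑ i, φ i x • e i = x) (u : W ⊗[A] N) :
    ∑ i, contr W (φ i) u ⊗ₜ[A] e i = u := by
  induction u using TensorProduct.induction_on with
  | zero => simp
  | tmul w x =>
    simp only [contr_tmul]
    conv_rhs => rw [← h x, TensorProduct.tmul_sum]
    refine Finset.sum_congr rfl (fun i _ => ?_)
    rw [TensorProduct.smul_tmul]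
  | add u v hu hv =>
    simp only [map_add, TensorProduct.add_tmul, Finset.sum_add_distrib, hu, hv]

lemma canonH_evAt_single (E L M : DRing.Cx A) (r p n t n' s : ℤ) (hrp : r + p = n) (ht : t + n = n')
    (hs : p + t = s) (φ : E.X p →ₗ[A] A) (u : L.X s) :
    (canonH E L M).f n ≫ evAt (DRing.homCx E L) M n t n' ht ((singleHom E L t p s hs φ).hom u) =
      (p * t).negOnePow • (TensCx.proj (DRing.homCx L M) E r p n hrp ≫
        ModuleCat.ofHom (contr ((DRing.homCx L M).X r) φ) ≫ evAt L M r s n' (by omega) u) := by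
  apply TensCx.hom_ext
  intro r' p' hrp'
  apply ModuleCat.MonoidalCategory.tensor_ext
  intro f x
  change (evAt (DRing.homCx E L) M n t n' ht ((singleHom E L t p s hs φ).hom u)).hom
    (((canonH E L M).f n).hom ((TensCx.ι (DRing.homCx L M) E r' p' n hrp').hom (f ⊗ₜ[A] x))) = _
  rw [evAt_apply, canonH_ι_apply E L M r' p' n t n' (p' + t) hrp' ht rfl]
  rw [Linear.comp_units_smul, units_smul_hom_apply]
  by_cases hp : p' = p
  · subst hp
    obtain rfl : r' = r := by omega
    obtain rfl : s = p' + t := by omega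
    congr 1
    have h1 : ((toCochain ((singleHom E L t p' (p' + t) hs φ).hom u)).v p' (p' + t) rfl).hom x =
        φ x • u := evAt_singleHom_self E L t p' (p' + t) hs φ u x
    rw [h1, map_smul]
    change _ = (evAt L M r' (p' + t) n' (by omega) u).hom (contr ((DRing.homCx L M).X r') φ
      ((TensCx.ι (DRing.homCx L M) E r' p' n hrp' ≫ TensCx.proj (DRing.homCx L M) E r' p' n hrp).hom
        (f ⊗ₜ[A] x)))
    rw [TensCx.ι_proj_self]
    change _ = (evAt L M r' (p' + t) n' (by omega) u).hom (contr ((DRing.homCx L M).X r') φ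
      (f ⊗ₜ[A] x))
    rw [contr_tmul, map_smul, evAt_apply]
  · have h1 : ((toCochain ((singleHom E L t p s hs φ).hom u)).v p' (p' + t) rfl).hom x = 0 :=
      evAt_singleHom_ne E L t p s hs φ u p' (p' + t) rfl hp x
    rw [h1, map_zero, smul_zero]
    change _ = (p * t).negOnePow • (evAt L M r s n' (by omega) u).hom (contr ((DRing.homCx L M).X r) φ
      ((TensCx.ι (DRing.homCx L M) E r' p' n hrp' ≫ TensCx.proj (DRing.homCx L M) E r p n hrp).hom
        (f ⊗ₜ[A] x)))
    rw [TensCx.ι_proj_ne (DRing.homCx L M) E r' p' r p n hrp' hrp (by omega)]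
    simp

theorem injective_canonH_f (E L M : DRing.Cx A)
    (hfp : ∀ p, Module.Finite A (E.X p) ∧ Module.Projective A (E.X p)) (n : ℤ) :
    Function.Injective ((canonH E L M).f n).hom := by
  classical
  rw [injective_iff_map_eq_zero]
  intro y hy
  apply TensCx.eq_zero_of_proj_eq_zero
  intro r
  obtain ⟨_, _⟩ := hfp (n - r)
  obtain ⟨k, e, φ, hφ⟩ := exists_dualBasis (A := A) (E.X (n - r))
  have hu := sum_contr_tmul ((DRing.homCx L M).X r) e φ hφ
    ((TensCx.proj (DRing.homCx L M) E r (n - r) n (by omega)).hom y)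
  refine hu.symm.trans (Finset.sum_eq_zero (fun i _ => ?_))
  have hw : contr ((DRing.homCx L M).X r) (φ i)
      ((TensCx.proj (DRing.homCx L M) E r (n - r) n (by omega)).hom y) = 0 := by
    refine Cochain.ext _ _ (fun s n' hs => ?_)
    apply ModuleCat.hom_ext
    apply LinearMap.ext
    intro u
    have h1 := congrArg (fun T => T.hom y) (canonH_evAt_single E L M r (n - r) n (s - (n - r)) n' s
      (by omega) (by omega) (by omega) (φ i) u)
    rw [units_smul_hom_apply] at h1
    change (evAt (DRing.homCx E L) M n (s - (n - r)) n' (by omega) _).hom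
      (((canonH E L M).f n).hom y) = _ at h1
    rw [hy, map_zero] at h1
    have h2 := (smul_eq_zero_iff_eq _).1 h1.symm
    exact h2
  rw [hw, TensorProduct.zero_tmul]

/-- The cochain `L → M` of degree `n - p` attached to a cochain `c : Hom•(E, L) → M` and a linear
form `φ` on `E^p`. -/
noncomputable def surjCochain (E L M : DRing.Cx A) (n p : ℤ)
    (c : (DRing.homCx (DRing.homCx E L) M).X n) (φ : E.X p →ₗ[A] A) : Cochain L M (n - p) :=
  Cochain.mk (fun s n'' hs => ModuleCat.ofHom ((p * (s - p)).negOnePow •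
    (((toCochain c).v (s - p) n'' (by omega)).hom ∘ₗ (singleHom E L (s - p) p s (by omega) φ).hom)))

lemma surjCochain_v_apply (E L M : DRing.Cx A) (n p : ℤ)
    (c : (DRing.homCx (DRing.homCx E L) M).X n) (φ : E.X p →ₗ[A] A) (t s n'' : ℤ) (hs : p + t = s)
    (hn : t + n = n'') (u : L.X s) :
    ((surjCochain E L M n p c φ).v s n'' (by omega)).hom u =
      (p * t).negOnePow • ((toCochain c).v t n'' hn).hom ((singleHom E L t p s hs φ).hom u) := by
  obtain rfl : t = s - p := by omega
  rfl

theorem surjective_canonH_f (E L M : DRing.Cx A) (a b : ℤ)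
    (hE : ∀ q, q < a ∨ b < q → IsZero (E.X q))
    (hfp : ∀ q, Module.Finite A (E.X q) ∧ Module.Projective A (E.X q)) (n : ℤ) :
    Function.Surjective ((canonH E L M).f n).hom := by
  classical
  intro c
  choose k e φ hφ using fun q => (by
    haveI := (hfp q).1
    haveI := (hfp q).2
    exact exists_dualBasis (A := A) (E.X q))
  let y : (DRing.homCx L M ⊗ E).X n := ∑ p ∈ Finset.Icc a b, ∑ i,
    (TensCx.ι (DRing.homCx L M) E (n - p) p n (by omega)).hom
      ((show (DRing.homCx L M).X (n - p) from surjCochain E L M n p c (φ p i)) ⊗ₜ[A] e p i)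
  refine ⟨y, ?_⟩
  refine Cochain.ext _ _ (fun t n' ht => ?_)
  apply ModuleCat.hom_ext
  apply LinearMap.ext
  intro g
  change (evAt (DRing.homCx E L) M n t n' ht g).hom (((canonH E L M).f n).hom y) =
    ((toCochain c).v t n' ht).hom g
  have hg := sum_singleHom_evAt E L a b hE k e φ hφ t g
  dsimp only [y]
  rw [map_sum, map_sum]
  conv_rhs => rw [← hg, map_sum]
  refine Finset.sum_congr rfl (fun p _ => ?_)
  rw [map_sum, map_sum, map_sum]
  refine Finset.sum_congr rfl (fun i _ => ?_)
  rw [evAt_apply, canonH_ι_apply E L M (n - p) p n t n' (p + t) (by omega) ht rfl]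
  have h1 := surjCochain_v_apply E L M n p c (φ p i) t (p + t) n' rfl ht
    (((toCochain g).v p (p + t) rfl).hom (e p i))
  refine (congrArg (fun T => (p * t).negOnePow • T) h1).trans ?_
  rw [smul_smul, Int.units_mul_self, one_smul]
  rfl

end Groth.Agent.Lib.Helper90.DTen
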