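import Groth.Agent.Lib.Helper90.DTen.Rho
import Groth.Agent.Lib.Helper32.KInjTower

/-!
# K-injective complexes and `RHom` (helper90)

`Q(Hom•(P, I)) ≅ RHom(QP, QI)` for `I` K-injective and `P` arbitrary; every object of `D(A)` is
the image of a K-injective complex; the counit `QY ⊗^L QP ⟶ Q(Y ⊗ P)` is an isomorphism for `P`
K-projective.
-/

set_option autoImplicit false
set_option linter.style.haveILetI false
set_option linter.unusedSectionVars false
universe w v u
open CategoryTheory CategoryTheory.Limits MonoidalCategory Opposite DerivedCategory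

namespace Groth.Agent.Lib.Helper90.DTen

section KInj

variable {C : Type u} [Category.{v} C] [Abelian C] [HasDerivedCategory.{w} C]

lemma Q_map_surjective_of_isKInjective (Z I : CochainComplex C ℤ) [I.IsKInjective]
    (g : (Q : CochainComplex C ℤ ⥤ DerivedCategory C).obj Z ⟶ Q.obj I) :
    ∃ f : Z ⟶ I, Q.map f = g := by
  obtain ⟨f', hf'⟩ := (CochainComplex.IsKInjective.Qh_map_bijective
    ((HomotopyCategory.quotient _ _).obj Z) I).surjective
      ((quotientCompQhIso C).hom.app Z ≫ g ≫ (quotientCompQhIso C).inv.app I)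
  obtain ⟨f, rfl⟩ := (HomotopyCategory.quotient _ _).map_surjective f'
  refine ⟨f, ?_⟩
  have h1 := quotientCompQhIso_hom_naturality (C := C) f
  rw [hf'] at h1
  simp only [Category.assoc, Iso.inv_hom_id_app, Category.comp_id] at h1
  exact ((cancel_epi _).1 h1).symm

lemma nonempty_homotopy_of_Q_map_eq_of_isKInjective {Z I : CochainComplex C ℤ} [I.IsKInjective]
    (f g : Z ⟶ I) (h : (Q : CochainComplex C ℤ ⥤ DerivedCategory C).map f = Q.map g) :
    Nonempty (Homotopy f g) := by
  have h1 := quotientCompQhIso_hom_naturality (C := C) f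
  have h2 := quotientCompQhIso_hom_naturality (C := C) g
  rw [h] at h1
  have h3 := (cancel_mono _).1 (h1.trans h2.symm)
  exact ⟨HomotopyCategory.homotopyOfEq _ _
    ((CochainComplex.IsKInjective.Qh_map_bijective _ I).injective h3)⟩

end KInj

attribute [local instance] HasDerivedCategory.standard

open _root_.DTen Groth.Agent.Lib.Helper26.TensorHomCx Groth.Agent.Lib.Helper26.KProjQ
  Groth.Agent.Lib.Helper26.DTenKProj

variable {A : Type u} [CommRing A]

/-- Every object of `D(A)` is isomorphic to the image of a K-injective complex. -/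
lemma exists_kinj_iso (K : Dual.D A) :
    ∃ (I : DRing.Cx A), I.IsKInjective ∧ Nonempty (DerivedCategory.Q.obj I ≅ K) := by
  obtain ⟨X, ⟨e⟩⟩ : ∃ X, Nonempty (DerivedCategory.Q.obj X ≅ K) :=
    ⟨_, ⟨DerivedCategory.Q.objObjPreimageIso K⟩⟩
  obtain ⟨I, f, hI, hf⟩ := Groth.Agent.Lib.Helper32.KInjTower.exists_kInjective_resolution X
  haveI : IsIso (DerivedCategory.Q.map f) :=
    Localization.inverts _ (qis A) _ ((HomologicalComplex.mem_quasiIso_iff _).2 hf)
  exact ⟨I, hI, ⟨(asIso (DerivedCategory.Q.map f)).symm ≪≫ e⟩⟩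

variable [HasLTen A]

/-- The counit `QY ⊗^L QP ⟶ Q(Y ⊗ P)` is an isomorphism for `P` K-projective, `Y` arbitrary. -/
lemma isIso_eps_right (Y P : DRing.Cx A) [P.IsKProjective] : IsIso (eps Y P) := by
  obtain ⟨P', s, hP', hs⟩ := hasKProjRes A Y
  have h := eps_naturality s (𝟙 P)
  haveI := quasiIso_whiskerRight_of_isKProjective P s
  have e1 : (s ⊗ₘ 𝟙 P) = s ▷ P := MonoidalCategory.tensorHom_id s P
  rw [e1] at h
  haveI : IsIso (eps P' P) := isIso_ε A P' P
  haveI : IsIso (DerivedCategory.Q.map s) :=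
    Localization.inverts _ (qis A) _ ((HomologicalComplex.mem_quasiIso_iff _).2 hs)
  haveI : IsIso (DerivedCategory.Q.map (s ▷ P)) :=
    Localization.inverts _ (qis A) _ ((HomologicalComplex.mem_quasiIso_iff _).2 inferInstance)
  haveI : IsIso (tmap (DerivedCategory.Q.map s) (DerivedCategory.Q.map (𝟙 P))) :=
    isIso_tmap _ _
  have h2 : eps Y P = inv (tmap (DerivedCategory.Q.map s) (DerivedCategory.Q.map (𝟙 P))) ≫
      eps P' P ≫ DerivedCategory.Q.map (s ▷ P) := by
    rw [← h, IsIso.inv_hom_id_assoc]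
  rw [h2]
  infer_instance

variable [HasLTen₃ A] [IsSymMonoidal A] [HasRHom A]

lemma bijective_comp_rho_of_isKInjective (P I : DRing.Cx A) [I.IsKInjective] (P' : DRing.Cx A)
    [P'.IsKProjective] :
    Function.Bijective (fun g : DerivedCategory.Q.obj P' ⟶ DerivedCategory.Q.obj (DRing.homCx P I) =>
      g ≫ rho P I) := by
  haveI : IsIso (eps P' P) := isIso_eps_left P' P
  constructor
  · intro g g' hgg'
    obtain ⟨g₀, rfl⟩ := Q_map_surjective _ _ g
    obtain ⟨g₀', rfl⟩ := Q_map_surjective _ _ g'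
    dsimp only at hgg'
    rw [comp_rho, comp_rho] at hgg'
    have h1 := (rhomHomEquiv _ _ _).injective hgg'
    have h2 := (cancel_epi _).1 h1
    obtain ⟨H⟩ := nonempty_homotopy_of_Q_map_eq_of_isKInjective _ _ h2
    have H' := curryHomHomotopy H
    rw [curryHom_uncurryHom, curryHom_uncurryHom] at H'
    exact Q_map_eq_of_homotopy _ _ H'
  · intro k
    obtain ⟨f, hf⟩ := Q_map_surjective_of_isKInjective (P' ⊗ P) I
      (inv (eps P' P) ≫ (rhomHomEquiv _ _ _).symm k)
    refine ⟨DerivedCategory.Q.map (curryHom f), ?_⟩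
    dsimp only
    rw [comp_rho, uncurryHom_curryHom, hf, IsIso.hom_inv_id_assoc, Equiv.apply_symm_apply]

/-- `Q(Hom•(P, I)) ⟶ RHom(QP, QI)` is an isomorphism for `I` K-injective. -/
lemma isIso_rho_of_isKInjective (P I : DRing.Cx A) [I.IsKInjective] : IsIso (rho P I) :=
  isIso_of_bijective_comp _ (fun P' _ => bijective_comp_rho_of_isKInjective P I P')

end Groth.Agent.Lib.Helper90.DTen
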