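import Groth.Agent.Lib.Helper90.DTen.EvalTenNat
import Groth.Agent.Lib.Helper90.DTen.KInj

/-!
# `evalHom` on images of complexes corresponds to the canonical map of complexes
`Hom•(L, M) ⊗ E ⟶ Hom•(Hom•(E, L), M)` (helper90)
-/

set_option autoImplicit false
set_option linter.style.haveILetI false
set_option linter.unusedSectionVars false
universe u
open CategoryTheory CategoryTheory.Limits MonoidalCategory Opposite
attribute [local instance] HasDerivedCategory.standard

namespace Groth.Agent.Lib.Helper90.DTen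

open _root_.DTen Groth.Agent.Lib.Helper26.TensorHomCx Groth.Agent.Lib.Helper26.KProjQ
  Groth.Agent.Lib.Helper26.DTenKProj

variable {A : Type u} [CommRing A]

/-- The map `E ⊗ Hom•(E, L) ⟶ L`: swap, then evaluate. -/
noncomputable def swapEv (E L : DRing.Cx A) : E ⊗ DRing.homCx E L ⟶ L :=
  (braidCx E (DRing.homCx E L)).hom ≫ evCx E L

/-- The map `(Hom•(L, M) ⊗ E) ⊗ Hom•(E, L) ⟶ M` whose adjunct is `canonH`. -/
noncomputable def canonHAux (E L M : DRing.Cx A) :
    (DRing.homCx L M ⊗ E) ⊗ DRing.homCx E L ⟶ M :=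
  (α_ (DRing.homCx L M) E (DRing.homCx E L)).hom ≫ (DRing.homCx L M ◁ swapEv E L) ≫ evCx L M

/-- The canonical map of complexes `Hom•(L, M) ⊗ E ⟶ Hom•(Hom•(E, L), M)`. -/
noncomputable def canonH (E L M : DRing.Cx A) :
    DRing.homCx L M ⊗ E ⟶ DRing.homCx (DRing.homCx E L) M :=
  curryHom (canonHAux E L M)

variable [HasLTen A] [HasLTen₃ A] [IsSymMonoidal A] [HasRHom A]

lemma symm_naturality {X X' Y Y' : Dual.D A} (f : X ⟶ X') (g : Y ⟶ Y') :
    tmap g f ≫ (symm A).app (X', Y') = (symm A).app (X, Y) ≫ tmap f g :=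
  (symm A).naturality (Prod.mkHom f g : (X, Y) ⟶ (X', Y'))

lemma symm_eps (K L : DRing.Cx A) :
    (symm A).app (DerivedCategory.Q.obj K, DerivedCategory.Q.obj L) ≫ eps K L =
      eps L K ≫ DerivedCategory.Q.map (braidCx L K).hom :=
  symm_fac A K L

lemma evalHom_adj (K L M : Dual.D A) :
    tmap (evalHom K L M) (𝟙 ((RHomR A K).obj L)) ≫ ev ((RHomR A K).obj L) M =
      (associator ((RHomR A L).obj M) K ((RHomR A K).obj L)).hom ≫
        tmap (𝟙 ((RHomR A L).obj M)) ((symm A).app ((RHomR A K).obj L, K) ≫ ev K L) ≫ ev L M :=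
  evalHom_fac K L M

lemma RHomMap_ev {L L' : Dual.D A} (g : L' ⟶ L) (M : Dual.D A) :
    tmap (RHomMap g M) (𝟙 L') ≫ ev L' M = tmap (𝟙 ((RHomR A L).obj M)) g ≫ ev L M :=
  RHom_map_ev g M

lemma evalHom_cx (E L M : DRing.Cx A) :
    tmap (rho L M) (𝟙 (DerivedCategory.Q.obj E)) ≫
        evalHom (DerivedCategory.Q.obj E) (DerivedCategory.Q.obj L) (DerivedCategory.Q.obj M) ≫
          RHomMap (rho E L) (DerivedCategory.Q.obj M) =
      eps (DRing.homCx L M) E ≫ DerivedCategory.Q.map (canonH E L M) ≫ rho (DRing.homCx E L) M := by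
  apply (rhomHomEquiv _ _ _).symm.injective
  rw [rhomHomEquiv_symm_apply, rhomHomEquiv_symm_apply]
  -- the common value
  have hR : tmap (eps (DRing.homCx L M) E ≫ DerivedCategory.Q.map (canonH E L M) ≫
        rho (DRing.homCx E L) M) (𝟙 (DerivedCategory.Q.obj (DRing.homCx E L))) ≫
        ev (DerivedCategory.Q.obj (DRing.homCx E L)) (DerivedCategory.Q.obj M) =
      tmap (eps (DRing.homCx L M) E) (𝟙 (DerivedCategory.Q.obj (DRing.homCx E L))) ≫
        eps (DRing.homCx L M ⊗ E) (DRing.homCx E L) ≫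
          DerivedCategory.Q.map (canonHAux E L M) := by
    rw [tmap_comp_left, tmap_comp_left, Category.assoc, Category.assoc, rho_fac,
      ← Category.assoc (tmap (DerivedCategory.Q.map (canonH E L M)) _), eps_naturality_left,
      Category.assoc, ← Functor.map_comp, ← uncurryHom_eq, canonH, uncurryHom_curryHom]
  rw [hR]
  have h1 : tmap (tmap (rho L M) (𝟙 (DerivedCategory.Q.obj E)) ≫
        evalHom (DerivedCategory.Q.obj E) (DerivedCategory.Q.obj L) (DerivedCategory.Q.obj M) ≫
          RHomMap (rho E L) (DerivedCategory.Q.obj M))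
        (𝟙 (DerivedCategory.Q.obj (DRing.homCx E L))) =
      tmap (tmap (rho L M) (𝟙 (DerivedCategory.Q.obj E)))
          (𝟙 (DerivedCategory.Q.obj (DRing.homCx E L))) ≫
        tmap (evalHom (DerivedCategory.Q.obj E) (DerivedCategory.Q.obj L) (DerivedCategory.Q.obj M))
          (𝟙 (DerivedCategory.Q.obj (DRing.homCx E L))) ≫
        tmap (RHomMap (rho E L) (DerivedCategory.Q.obj M))
          (𝟙 (DerivedCategory.Q.obj (DRing.homCx E L))) := by
    rw [tmap_comp_left, tmap_comp_left]
  have h2 := RHomMap_ev (rho E L) (DerivedCategory.Q.obj M)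
  have h3 : tmap (evalHom (DerivedCategory.Q.obj E) (DerivedCategory.Q.obj L) (DerivedCategory.Q.obj M))
        (𝟙 (DerivedCategory.Q.obj (DRing.homCx E L))) ≫
      tmap (𝟙 _) (rho E L) =
      tmap (𝟙 _) (rho E L) ≫
        tmap (evalHom (DerivedCategory.Q.obj E) (DerivedCategory.Q.obj L) (DerivedCategory.Q.obj M))
          (𝟙 _) := by
    rw [tmap_swap, tmap_swap']
  have h4 := evalHom_adj (DerivedCategory.Q.obj E) (DerivedCategory.Q.obj L) (DerivedCategory.Q.obj M)
  have h5 : tmap (tmap (rho L M) (𝟙 (DerivedCategory.Q.obj E)))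
        (𝟙 (DerivedCategory.Q.obj (DRing.homCx E L))) ≫ tmap (𝟙 _) (rho E L) =
      tmap (tmap (rho L M) (𝟙 (DerivedCategory.Q.obj E))) (rho E L) := tmap_swap _ _
  have h6 := associator_naturality (rho L M) (𝟙 (DerivedCategory.Q.obj E)) (rho E L)
  have h7 : tmap (rho L M) (tmap (𝟙 (DerivedCategory.Q.obj E)) (rho E L)) ≫
      tmap (𝟙 _) ((symm A).app ((RHomR A (DerivedCategory.Q.obj E)).obj (DerivedCategory.Q.obj L),
        DerivedCategory.Q.obj E) ≫ ev (DerivedCategory.Q.obj E) (DerivedCategory.Q.obj L)) =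
      tmap (𝟙 _) (eps E (DRing.homCx E L) ≫ DerivedCategory.Q.map (swapEv E L)) ≫
        tmap (rho L M) (𝟙 (DerivedCategory.Q.obj L)) := by
    rw [← tmap_comp, Category.comp_id, ← Category.assoc, symm_naturality, Category.assoc, rho_fac,
      ← Category.assoc, symm_eps, Category.assoc, ← Functor.map_comp, ← swapEv, tmap_swap']
  have h8 := eps_naturality_right (DRing.homCx L M) (swapEv E L)
  have h9 := associator_eps (DRing.homCx L M) E (DRing.homCx E L)
  rw [h1, Category.assoc, Category.assoc, h2, reassoc_of% h3, h4, reassoc_of% h5, reassoc_of% h6,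
    reassoc_of% h7, rho_fac, tmap_comp_right, Category.assoc, reassoc_of% h8, reassoc_of% h9,
    canonHAux, Functor.map_comp, Functor.map_comp]

end Groth.Agent.Lib.Helper90.DTen
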