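import Groth.Agent.Lib.Helper90.DTen.EvalHomCx

/-!
# Naturality of `DTen.evalHom` in its three variables (helper90)
-/

set_option autoImplicit false
set_option linter.style.haveILetI false
set_option linter.unusedSectionVars false
universe u
open CategoryTheory CategoryTheory.Limits MonoidalCategory Opposite
attribute [local instance] HasDerivedCategory.standard

namespace Groth.Agent.Lib.Helper90.DTen

open _root_.DTen

variable {A : Type u} [CommRing A] [HasLTen A] [HasLTen₃ A] [IsSymMonoidal A] [HasRHom A]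

/-- `swap ≫ ev`, the map `K ⊗^L RHom(K, L) ⟶ L`. -/
noncomputable abbrev sev (K L : Dual.D A) : (LTen₂ A).obj (K, (RHomR A K).obj L) ⟶ L :=
  (symm A).app ((RHomR A K).obj L, K) ≫ ev K L

lemma evalHom_adj' (K L M : Dual.D A) :
    tmap (evalHom K L M) (𝟙 ((RHomR A K).obj L)) ≫ ev ((RHomR A K).obj L) M =
      (associator ((RHomR A L).obj M) K ((RHomR A K).obj L)).hom ≫
        tmap (𝟙 ((RHomR A L).obj M)) (sev K L) ≫ ev L M :=
  evalHom_fac K L M

/-- The adjunct of `evalHom K L M ≫ RHomMap g M` for `g : R' ⟶ RHom(K, L)`. -/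
lemma evalHom_comp_RHomMap_adj (K L M : Dual.D A) {R' : Dual.D A} (g : R' ⟶ (RHomR A K).obj L) :
    tmap (evalHom K L M ≫ RHomMap g M) (𝟙 R') ≫ ev R' M =
      (associator ((RHomR A L).obj M) K R').hom ≫
        tmap (𝟙 ((RHomR A L).obj M)) (tmap (𝟙 K) g ≫ sev K L) ≫ ev L M := by
  have h1 := RHomMap_ev g M
  have h2 : tmap (evalHom K L M) (𝟙 R') ≫ tmap (𝟙 _) g =
      tmap (𝟙 _) g ≫ tmap (evalHom K L M) (𝟙 _) := by
    rw [tmap_swap, tmap_swap']
  have h3 := associator_naturality (𝟙 ((RHomR A L).obj M)) (𝟙 K) g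
  rw [tmap_id] at h3
  have h4 : tmap (𝟙 ((RHomR A L).obj M)) (tmap (𝟙 K) g ≫ sev K L) =
      tmap (𝟙 ((RHomR A L).obj M)) (tmap (𝟙 K) g) ≫ tmap (𝟙 ((RHomR A L).obj M)) (sev K L) :=
    tmap_comp_right _ _ _
  rw [tmap_comp_left, Category.assoc, h1, reassoc_of% h2, evalHom_adj', reassoc_of% h3, h4,
    Category.assoc]

/-- Naturality of `evalHom` in the third variable. -/
lemma evalHom_naturality_right (K L : Dual.D A) {M M' : Dual.D A} (m : M ⟶ M') :
    tmap ((RHomR A L).map m) (𝟙 K) ≫ evalHom K L M' =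
      evalHom K L M ≫ (RHomR A ((RHomR A K).obj L)).map m := by
  apply (rhomHomEquiv _ _ _).symm.injective
  rw [rhomHomEquiv_symm_apply, rhomHomEquiv_symm_apply, tmap_comp_left, tmap_comp_left,
    Category.assoc, Category.assoc, tmap_RHomR_map_ev, evalHom_adj', reassoc_of% (evalHom_adj' K L M)]
  have h := associator_naturality ((RHomR A L).map m) (𝟙 K) (𝟙 ((RHomR A K).obj L))
  have h' : tmap ((RHomR A L).map m) (𝟙 ((LTen₂ A).obj (K, (RHomR A K).obj L))) ≫
      tmap (𝟙 ((RHomR A L).obj M')) (sev K L) =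
      tmap (𝟙 ((RHomR A L).obj M)) (sev K L) ≫ tmap ((RHomR A L).map m) (𝟙 L) := by
    rw [tmap_swap, tmap_swap']
  rw [reassoc_of% h, tmap_id, reassoc_of% h', tmap_RHomR_map_ev]

/-- Naturality of `evalHom` in the first variable. -/
lemma evalHom_naturality_left {K K' : Dual.D A} (k : K ⟶ K') (L M : Dual.D A) :
    tmap (𝟙 ((RHomR A L).obj M)) k ≫ evalHom K' L M =
      evalHom K L M ≫ RHomMap (RHomMap k L) M := by
  apply (rhomHomEquiv _ _ _).symm.injective
  rw [rhomHomEquiv_symm_apply, rhomHomEquiv_symm_apply, evalHom_comp_RHomMap_adj, tmap_comp_left,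
    Category.assoc, evalHom_adj']
  have h := associator_naturality (𝟙 ((RHomR A L).obj M)) k (𝟙 ((RHomR A K').obj L))
  have h1 : tmap k (𝟙 ((RHomR A K').obj L)) ≫ sev K' L = tmap (𝟙 K) (RHomMap k L) ≫ sev K L := by
    have e1 := symm_naturality (𝟙 ((RHomR A K').obj L)) k
    have e2 := symm_naturality (RHomMap k L) (𝟙 K)
    have e3 := RHomMap_ev k L
    dsimp only [sev]
    rw [reassoc_of% e1, reassoc_of% e2, e3]
  have h2 : tmap (𝟙 ((RHomR A L).obj M)) (tmap k (𝟙 ((RHomR A K').obj L))) ≫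
      tmap (𝟙 ((RHomR A L).obj M)) (sev K' L) =
      tmap (𝟙 ((RHomR A L).obj M)) (tmap (𝟙 K) (RHomMap k L) ≫ sev K L) := by
    rw [← tmap_comp_right, h1]
  rw [reassoc_of% h, reassoc_of% h2]

/-- Naturality of `evalHom` in the second variable (contravariant). -/
lemma evalHom_naturality_middle (K : Dual.D A) {L L' : Dual.D A} (l : L' ⟶ L) (M : Dual.D A) :
    tmap (RHomMap l M) (𝟙 K) ≫ evalHom K L' M =
      evalHom K L M ≫ RHomMap ((RHomR A K).map l) M := by
  apply (rhomHomEquiv _ _ _).symm.injective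
  rw [rhomHomEquiv_symm_apply, rhomHomEquiv_symm_apply, evalHom_comp_RHomMap_adj, tmap_comp_left,
    Category.assoc, evalHom_adj']
  have h := associator_naturality (RHomMap l M) (𝟙 K) (𝟙 ((RHomR A K).obj L'))
  have h1 : tmap (𝟙 K) ((RHomR A K).map l) ≫ sev K L = sev K L' ≫ l := by
    have e2 := symm_naturality ((RHomR A K).map l) (𝟙 K)
    have e3 := tmap_RHomR_map_ev (M := K) l
    dsimp only [sev]
    rw [reassoc_of% e2, e3, Category.assoc]
  have h2 : tmap (RHomMap l M) (𝟙 ((LTen₂ A).obj (K, (RHomR A K).obj L'))) ≫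
      tmap (𝟙 ((RHomR A L').obj M)) (sev K L') =
      tmap (𝟙 ((RHomR A L).obj M)) (sev K L') ≫ tmap (RHomMap l M) (𝟙 L') := by
    rw [tmap_swap, tmap_swap']
  have h3 := RHomMap_ev l M
  have h4 : tmap (𝟙 ((RHomR A L).obj M)) (sev K L') ≫ tmap (𝟙 ((RHomR A L).obj M)) l =
      tmap (𝟙 ((RHomR A L).obj M)) (tmap (𝟙 K) ((RHomR A K).map l) ≫ sev K L) := by
    rw [← tmap_comp_right, h1]
  rw [reassoc_of% h, tmap_id, reassoc_of% h2, h3, reassoc_of% h4]

/-- `IsIso (evalHom K L M)` is invariant under isomorphisms in the three variables. -/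
lemma isIso_evalHom_of_isos {K K' L L' M M' : Dual.D A} (k : K ≅ K') (l : L' ≅ L) (m : M ≅ M')
    (h : IsIso (evalHom K L M)) : IsIso (evalHom K' L' M') := by
  have isoRHomMap : ∀ {X Y : Dual.D A} (g : X ⟶ Y) [IsIso g] (Z : Dual.D A),
      IsIso (RHomMap g Z) := by
    intro X Y g _ Z
    haveI : IsIso ((RHom A).map g.op) := Functor.map_isIso _ _
    dsimp only [RHomMap]
    exact NatIso.isIso_app_of_isIso _ _
  -- first variable
  have h1 : IsIso (evalHom K' L M) := by
    haveI := isIso_tmap (𝟙 ((RHomR A L).obj M)) k.hom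
    haveI := isoRHomMap k.hom L
    haveI := isoRHomMap (RHomMap k.hom L) M
    have e := evalHom_naturality_left k.hom L M
    have e' : evalHom K' L M = inv (tmap (𝟙 ((RHomR A L).obj M)) k.hom) ≫
        evalHom K L M ≫ RHomMap (RHomMap k.hom L) M := by
      rw [← e, IsIso.inv_hom_id_assoc]
    rw [e']
    infer_instance
  -- second variable
  have h2 : IsIso (evalHom K' L' M) := by
    haveI := isoRHomMap l.hom M
    haveI := isIso_tmap (RHomMap l.hom M) (𝟙 K')
    haveI := isoRHomMap ((RHomR A K').map l.hom) M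
    have e := evalHom_naturality_middle K' l.hom M
    have e' : evalHom K' L' M = inv (tmap (RHomMap l.hom M) (𝟙 K')) ≫
        evalHom K' L M ≫ RHomMap ((RHomR A K').map l.hom) M := by
      rw [← e, IsIso.inv_hom_id_assoc]
    rw [e']
    infer_instance
  -- third variable
  haveI := isIso_tmap ((RHomR A L').map m.hom) (𝟙 K')
  have e := evalHom_naturality_right K' L' m.hom
  have e' : evalHom K' L' M' = inv (tmap ((RHomR A L').map m.hom) (𝟙 K')) ≫
      evalHom K' L' M ≫ (RHomR A ((RHomR A K').obj L')).map m.hom := by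
    rw [← e, IsIso.inv_hom_id_assoc]
  rw [e']
  infer_instance

end Groth.Agent.Lib.Helper90.DTen
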