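import Groth.Agent.Lib.Helper90.DTen.EvalTenCx

/-!
# Naturality of `DTen.evalTen` in its three variables (helper90)
-/

set_option autoImplicit false
set_option linter.style.haveILetI false
set_option linter.unusedSectionVars false
universe u
open CategoryTheory CategoryTheory.Limits MonoidalCategory Opposite
attribute [local instance] HasDerivedCategory.standard

namespace Groth.Agent.Lib.Helper90.DTen

open _root_.DTen

variable {A : Type u} [CommRing A] [HasLTen A] [HasLTen₃ A] [IsSymMonoidal A] [HasRHom A]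

lemma tmap_swap {a a' b b' : Dual.D A} (f : a ⟶ a') (g : b ⟶ b') :
    tmap f (𝟙 b) ≫ tmap (𝟙 a') g = tmap f g := by
  rw [← tmap_comp, Category.comp_id, Category.id_comp]

lemma tmap_swap' {a a' b b' : Dual.D A} (f : a ⟶ a') (g : b ⟶ b') :
    tmap (𝟙 a) g ≫ tmap f (𝟙 b') = tmap f g := by
  rw [← tmap_comp, Category.comp_id, Category.id_comp]

lemma evalTen_adj (K L M : Dual.D A) :
    tmap (evalTen K L M) (𝟙 M) ≫ ev M ((LTen₂ A).obj (K, L)) =
      (associator K ((RHomR A M).obj L) M).hom ≫ tmap (𝟙 K) (ev M L) :=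
  evalTen_fac K L M

/-- Naturality of `evalTen` in the first variable. -/
lemma evalTen_naturality_left {K K' : Dual.D A} (k : K ⟶ K') (L M : Dual.D A) :
    tmap k (𝟙 ((RHomR A M).obj L)) ≫ evalTen K' L M =
      evalTen K L M ≫ (RHomR A M).map (tmap k (𝟙 L)) := by
  apply (rhomHomEquiv _ _ _).symm.injective
  rw [rhomHomEquiv_symm_apply, rhomHomEquiv_symm_apply, tmap_comp_left, tmap_comp_left,
    Category.assoc, Category.assoc, tmap_RHomR_map_ev, evalTen_adj, reassoc_of% (evalTen_adj K L M)]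
  have h := associator_naturality k (𝟙 ((RHomR A M).obj L)) (𝟙 M)
  rw [reassoc_of% h, tmap_id, tmap_swap, tmap_swap']

/-- Naturality of `evalTen` in the second variable. -/
lemma evalTen_naturality_middle (K : Dual.D A) {L L' : Dual.D A} (l : L ⟶ L') (M : Dual.D A) :
    tmap (𝟙 K) ((RHomR A M).map l) ≫ evalTen K L' M =
      evalTen K L M ≫ (RHomR A M).map (tmap (𝟙 K) l) := by
  apply (rhomHomEquiv _ _ _).symm.injective
  rw [rhomHomEquiv_symm_apply, rhomHomEquiv_symm_apply, tmap_comp_left, tmap_comp_left,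
    Category.assoc, Category.assoc, tmap_RHomR_map_ev, evalTen_adj, reassoc_of% (evalTen_adj K L M)]
  have h := associator_naturality (𝟙 K) ((RHomR A M).map l) (𝟙 M)
  rw [reassoc_of% h, ← tmap_comp_right, ← tmap_comp_right, tmap_RHomR_map_ev]

/-- Naturality of `evalTen` in the third variable. -/
lemma evalTen_naturality_right (K L : Dual.D A) {M M' : Dual.D A} (m : M' ⟶ M) :
    evalTen K L M ≫ RHomMap m ((LTen₂ A).obj (K, L)) =
      tmap (𝟙 K) (RHomMap m L) ≫ evalTen K L M' := by
  apply (rhomHomEquiv _ _ _).symm.injective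
  rw [rhomHomEquiv_symm_apply, rhomHomEquiv_symm_apply, tmap_comp_left, tmap_comp_left,
    Category.assoc, Category.assoc, evalTen_adj]
  have h1 : tmap (RHomMap m ((LTen₂ A).obj (K, L))) (𝟙 M') ≫ ev M' ((LTen₂ A).obj (K, L)) =
      tmap (𝟙 ((RHomR A M).obj ((LTen₂ A).obj (K, L)))) m ≫ ev M ((LTen₂ A).obj (K, L)) :=
    RHom_map_ev m _
  have h2 : tmap (RHomMap m L) (𝟙 M') ≫ ev M' L = tmap (𝟙 ((RHomR A M).obj L)) m ≫ ev M L :=
    RHom_map_ev m _
  have h3 := associator_naturality (𝟙 K) (RHomMap m L) (𝟙 M')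
  have h4 := associator_naturality (𝟙 K) (𝟙 ((RHomR A M).obj L)) m
  rw [h1, reassoc_of% h3, ← tmap_comp_right, h2, tmap_comp_right, ← reassoc_of% h4, tmap_id,
    ← Category.assoc, tmap_swap, ← tmap_swap', Category.assoc, evalTen_adj]

end Groth.Agent.Lib.Helper90.DTen
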