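import Groth.Agent.Lib.Helper90.DTen.Main
import Groth.Agent.Lib.Helper90.DTen.CanonIso2

/-!
# `K ⊗^L RHom(M, L) ⟶ RHom(M, K ⊗^L L)` is an isomorphism for `M` perfect (helper90)
-/

set_option autoImplicit false
set_option linter.style.haveILetI false
set_option linter.unusedSectionVars false
universe u
open CategoryTheory CategoryTheory.Limits MonoidalCategory Opposite
attribute [local instance] HasDerivedCategory.standard

namespace Groth.Agent.Lib.Helper90.DTen

open _root_.DTen Groth.Agent.Lib.Helper26.TensorHomCx Groth.Agent.Lib.Helper26.KProjQ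
  Groth.Agent.Lib.Helper26.DTenKProj

variable {A : Type u} [CommRing A]

/-- The canonical map of complexes is an isomorphism when `E` (the source of the Hom complexes)
is bounded with finite projective terms. -/
theorem isIso_canon' (K L E : DRing.Cx A) (a b : ℤ) (hE : DRing.VanishesOutside E a b)
    (hfp : DRing.TermwiseFiniteProjective E) : IsIso (canon K L E) := by
  haveI : ∀ n, IsIso ((canon K L E).f n) := fun n => by
    rw [ConcreteCategory.isIso_iff_bijective]
    exact ⟨injective_canon_f' K L E a b hE hfp n, surjective_canon_f' K L E a b hE hfp n⟩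
  exact HomologicalComplex.Hom.isIso_of_components _

variable [HasLTen A] [HasLTen₃ A] [IsSymMonoidal A] [HasRHom A]

/-- `evalTen` on images of complexes, with `K` K-projective and `M` bounded finite projective. -/
lemma isIso_evalTen_cx' (K₀ L₀ E : DRing.Cx A) (a b : ℤ) (hE : DRing.VanishesOutside E a b)
    (hfp : DRing.TermwiseFiniteProjective E) [K₀.IsKProjective] :
    IsIso (evalTen (DerivedCategory.Q.obj K₀) (DerivedCategory.Q.obj L₀) (DerivedCategory.Q.obj E)) := by
  haveI : E.IsKProjective := Groth.Agent.Lib.Helper32.LBC.isKProjective_of_vanishesAbove E b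
    (fun i hi => hE i (Or.inr hi)) (fun i => (hfp i).2)
  have h := evalTen_cx K₀ L₀ E
  haveI := isIso_rho E L₀
  haveI := isIso_rho E (K₀ ⊗ L₀)
  haveI := isIso_eps_left K₀ L₀
  haveI := isIso_eps_left K₀ (DRing.homCx E L₀)
  haveI := isIso_canon' K₀ L₀ E a b hE hfp
  haveI := isIso_tmap (𝟙 (DerivedCategory.Q.obj K₀)) (rho E L₀)
  have e' : evalTen (DerivedCategory.Q.obj K₀) (DerivedCategory.Q.obj L₀) (DerivedCategory.Q.obj E) =
      inv (tmap (𝟙 (DerivedCategory.Q.obj K₀)) (rho E L₀)) ≫
        (eps K₀ (DRing.homCx E L₀) ≫ DerivedCategory.Q.map (canon K₀ L₀ E) ≫ rho E (K₀ ⊗ L₀)) ≫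
          inv ((RHomR A (DerivedCategory.Q.obj E)).map (eps K₀ L₀)) := by
    rw [← h]
    simp
  rw [e']
  infer_instance

/-- `K ⊗^L RHom(M, L) ⟶ RHom(M, K ⊗^L L)` is an isomorphism for `M` perfect. -/
theorem isIso_evalTen_of_isPerfect_right (K L M : Dual.D A) (hM : DRing.IsPerfect A M) :
    IsIso (evalTen K L M) := by
  obtain ⟨E, a, b, hE, hfp, ⟨eM⟩⟩ := hM
  obtain ⟨L₀, _, ⟨eL⟩⟩ := Groth.Agent.Lib.Helper32.LBC.exists_kproj_iso L
  obtain ⟨K₀, hK₀, ⟨eK⟩⟩ := Groth.Agent.Lib.Helper32.LBC.exists_kproj_iso K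
  exact isIso_evalTen_of_isos eK eL eM.symm (isIso_evalTen_cx' K₀ L₀ E a b hE hfp)

end Groth.Agent.Lib.Helper90.DTen
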