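import Groth.Agent.Lib.Helper90.DTen.EvalHomNat
import Groth.Agent.Lib.Helper90.DTen.CanonHIso

/-!
# `RHom(L, M) ⊗^L K ⟶ RHom(RHom(K, L), M)` is an isomorphism for `K` perfect (helper90)
-/

set_option autoImplicit false
set_option linter.style.haveILetI false
set_option linter.unusedSectionVars false
universe u
open CategoryTheory CategoryTheory.Limits MonoidalCategory Opposite
attribute [local instance] HasDerivedCategory.standard

namespace Groth.Agent.Lib.Helper90.DTen

open _root_.DTen Groth.Agent.Lib.Helper26.TensorHomCx Groth.Agent.Lib.Helper26.KProjQ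
  Groth.Agent.Lib.Helper26.DTenKProj

variable {A : Type u} [CommRing A]

/-- The canonical map of complexes `Hom•(L, M) ⊗ E ⟶ Hom•(Hom•(E, L), M)` is an isomorphism when
`E` is bounded with finite projective terms. -/
theorem isIso_canonH (E L M : DRing.Cx A) (a b : ℤ) (hE : DRing.VanishesOutside E a b)
    (hfp : DRing.TermwiseFiniteProjective E) : IsIso (canonH E L M) := by
  haveI : ∀ n, IsIso ((canonH E L M).f n) := fun n => by
    rw [ConcreteCategory.isIso_iff_bijective]
    exact ⟨injective_canonH_f E L M hfp n, surjective_canonH_f E L M a b hE hfp n⟩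
  exact HomologicalComplex.Hom.isIso_of_components _

variable [HasLTen A] [HasLTen₃ A] [IsSymMonoidal A] [HasRHom A]

/-- `evalHom` on images of complexes, with `K` bounded finite projective and `M` K-injective. -/
lemma isIso_evalHom_cx (E L₀ M₀ : DRing.Cx A) (a b : ℤ) (hE : DRing.VanishesOutside E a b)
    (hfp : DRing.TermwiseFiniteProjective E) [M₀.IsKInjective] :
    IsIso (evalHom (DerivedCategory.Q.obj E) (DerivedCategory.Q.obj L₀) (DerivedCategory.Q.obj M₀)) := by
  haveI : E.IsKProjective := Groth.Agent.Lib.Helper32.LBC.isKProjective_of_vanishesAbove E b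
    (fun i hi => hE i (Or.inr hi)) (fun i => (hfp i).2)
  have h := evalHom_cx E L₀ M₀
  haveI := isIso_rho_of_isKInjective L₀ M₀
  haveI := isIso_rho_of_isKInjective (DRing.homCx E L₀) M₀
  haveI := isIso_rho E L₀
  haveI := isIso_eps_right (DRing.homCx L₀ M₀) E
  haveI := isIso_canonH E L₀ M₀ a b hE hfp
  haveI := isIso_tmap (rho L₀ M₀) (𝟙 (DerivedCategory.Q.obj E))
  haveI h3 : IsIso ((RHom A).map (rho E L₀).op) := Functor.map_isIso _ _
  haveI : IsIso (RHomMap (rho E L₀) (DerivedCategory.Q.obj M₀)) := by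
    dsimp only [RHomMap]
    exact NatIso.isIso_app_of_isIso _ _
  have e' : evalHom (DerivedCategory.Q.obj E) (DerivedCategory.Q.obj L₀) (DerivedCategory.Q.obj M₀) =
      inv (tmap (rho L₀ M₀) (𝟙 (DerivedCategory.Q.obj E))) ≫
        (eps (DRing.homCx L₀ M₀) E ≫ DerivedCategory.Q.map (canonH E L₀ M₀) ≫
          rho (DRing.homCx E L₀) M₀) ≫
          inv (RHomMap (rho E L₀) (DerivedCategory.Q.obj M₀)) := by
    rw [← h]
    simp
  rw [e']
  infer_instance

/-- `RHom(L, M) ⊗^L K ⟶ RHom(RHom(K, L), M)` is an isomorphism for `K` perfect. -/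
theorem isIso_evalHom_of_isPerfect (K L M : Dual.D A) (hK : DRing.IsPerfect A K) :
    IsIso (evalHom K L M) := by
  obtain ⟨E, a, b, hE, hfp, ⟨eK⟩⟩ := hK
  obtain ⟨L₀, ⟨eL⟩⟩ : ∃ L₀ : DRing.Cx A, Nonempty (DerivedCategory.Q.obj L₀ ≅ L) :=
    ⟨_, ⟨DerivedCategory.Q.objObjPreimageIso L⟩⟩
  obtain ⟨M₀, hM₀, ⟨eM⟩⟩ := exists_kinj_iso M
  exact isIso_evalHom_of_isos eK eL.symm eM (isIso_evalHom_cx E L₀ M₀ a b hE hfp)

end Groth.Agent.Lib.Helper90.DTen
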