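import Groth.Agent.Lib.Helper90.DTen.Main3
import Groth.Agent.Lib.Helper90.DTen.CanonHIso2

/-!
# `RHom(L, M) ⊗^L K ⟶ RHom(RHom(K, L), M)` is an isomorphism for `K` pseudo-coherent, `L` bounded
below and `M` of finite injective dimension (helper90)
-/

set_option autoImplicit false
set_option linter.style.haveILetI false
set_option linter.unusedSectionVars false
universe u
open CategoryTheory CategoryTheory.Limits MonoidalCategory Opposite
attribute [local instance] HasDerivedCategory.standard

namespace Groth.Agent.Lib.Helper90.DTen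

open _root_.DTen Groth.Agent.Lib.Helper26.TensorHomCx Groth.Agent.Lib.Helper26.KProjQ
  Groth.Agent.Lib.Helper26.DTenKProj

variable {A : Type u} [CommRing A]

variable [HasLTen A] [HasLTen₃ A] [IsSymMonoidal A] [HasRHom A]

/-- `evalHom` on images of complexes, with `E` K-projective, `M₀` K-injective and `canonH` an
isomorphism. -/
lemma isIso_evalHom_cx_of_isIso_canonH (E L₀ M₀ : DRing.Cx A) [E.IsKProjective] [M₀.IsKInjective]
    (hc : IsIso (canonH E L₀ M₀)) :
    IsIso (evalHom (DerivedCategory.Q.obj E) (DerivedCategory.Q.obj L₀) (DerivedCategory.Q.obj M₀)) := by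
  have h := evalHom_cx E L₀ M₀
  haveI := isIso_rho_of_isKInjective L₀ M₀
  haveI := isIso_rho_of_isKInjective (DRing.homCx E L₀) M₀
  haveI := isIso_rho E L₀
  haveI := isIso_eps_right (DRing.homCx L₀ M₀) E
  haveI := isIso_tmap (rho L₀ M₀) (𝟙 (DerivedCategory.Q.obj E))
  haveI h3 : IsIso ((RHom A).map (rho E L₀).op) := Functor.map_isIso _ _
  haveI : IsIso (RHomMap (rho E L₀) (DerivedCategory.Q.obj M₀)) := by
    dsimp only [RHomMap]
    exact NatIso.isIso_app_of_isIso _ _
  have e' : evalHom (DerivedCategory.Q.obj E) (DerivedCategory.Q.obj L₀) (DerivedCategory.Q.obj M₀) =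
      inv (tmap (rho L₀ M₀) (𝟙 (DerivedCategory.Q.obj E))) ≫
        (eps (DRing.homCx L₀ M₀) E ≫ DerivedCategory.Q.map (canonH E L₀ M₀) ≫
          rho (DRing.homCx E L₀) M₀) ≫
          inv (RHomMap (rho E L₀) (DerivedCategory.Q.obj M₀)) := by
    rw [← h]
    simp
  rw [e']
  infer_instance

/-- `RHom(L, M) ⊗^L K ⟶ RHom(RHom(K, L), M)` is an isomorphism for `K` pseudo-coherent, `L` bounded
below and `M` of finite injective dimension. -/
theorem isIso_evalHom_of_isPseudoCoherent (K L M : Dual.D A) (hK : DRing.IsPseudoCoherent' A K)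
    (n : ℤ) (hL : DerivedCategory.IsGE L n) (hM : DRing.HasFiniteInjDim A M) :
    IsIso (evalHom K L M) := by
  obtain ⟨P, b, hP, hff, ⟨eK⟩⟩ := hK
  obtain ⟨c, d, I, hI, hinj, ⟨eM⟩⟩ := hM
  obtain ⟨L₀, hL₀, ⟨eL⟩⟩ := L.exists_iso_Q_obj_of_isGE n
  have hfp : ∀ q, Module.Finite A (P.X q) ∧ Module.Projective A (P.X q) := fun q => by
    haveI := (hff q).1
    haveI := (hff q).2
    exact ⟨inferInstance, inferInstance⟩
  haveI : P.IsKProjective := Groth.Agent.Lib.Helper32.LBC.isKProjective_of_vanishesAbove P b hP
    (fun i => (hfp i).2)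
  haveI : I.IsKInjective := by
    haveI : I.IsStrictlyGE c := by
      rw [CochainComplex.isStrictlyGE_iff]
      exact fun i hi => hI i (Or.inl hi)
    haveI : ∀ j : ℤ, Injective (I.X j) := fun j => by
      haveI := hinj j
      exact Module.injective_object_of_injective_module A (I.X j)
    exact CochainComplex.isKInjective_of_injective I c
  have hc : IsIso (canonH P L₀ I) := by
    haveI : ∀ m, IsIso ((canonH P L₀ I).f m) := fun m => by
      rw [ConcreteCategory.isIso_iff_bijective]
      refine ⟨injective_canonH_f P L₀ I hfp m,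
        surjective_canonH_f' P L₀ I hfp m (Finset.Icc (n + m - d) b) ?_⟩
      intro t
      by_cases ht : c ≤ t + m ∧ t + m ≤ d
      · right
        intro p hp
        rw [Finset.mem_Icc] at hp
        by_cases hpb : b < p
        · left
          exact ModuleCat.subsingleton_of_isZero (hP p hpb)
        · right
          exact ModuleCat.subsingleton_of_isZero
            (CochainComplex.isZero_of_isStrictlyGE L₀ n (p + t) (by omega))
      · left
        exact ModuleCat.subsingleton_of_isZero (hI (t + m) (by omega))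
    exact HomologicalComplex.Hom.isIso_of_components _
  exact isIso_evalHom_of_isos eK eL eM (isIso_evalHom_cx_of_isIso_canonH P L₀ I hc)

end Groth.Agent.Lib.Helper90.DTen
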